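import Mathlib

/-!
# An involution whose centralizer is dihedral of order 8: basic structure
-/

set_option autoImplicit false

namespace Cfsg.Agent.Lib.Helper5.D8Cent

open DihedralGroup Subgroup

/-- the dihedral group of order 8 -/
abbrev D := DihedralGroup 4

theorem d8_center : ∀ g : D, (∀ h : D, g * h = h * g) → g = 1 ∨ g = r 2 := by decide

theorem d8_sq : ∀ g : D, g ^ 2 = 1 ∨ g ^ 2 = r 2 := by decide

theorem d8_card : Nat.card D = 8 := by
  rw [DihedralGroup.nat_card]

set_option synthInstance.maxSize 2000 in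
set_option synthInstance.maxHeartbeats 200000 in
theorem d8_struct : ∀ x : D, x ^ 2 = 1 → x ≠ 1 → x ≠ r 2 →
    ∀ y : D, y ^ 2 = 1 → y ≠ 1 → y ≠ r 2 → y ≠ x → y ≠ r 2 * x →
      (y * x * y⁻¹ = r 2 * x ∧ x * y * x⁻¹ = r 2 * y ∧ (x * y) ^ 2 = r 2 ∧
        ∀ s : D, s = 1 ∨ s = r 2 ∨ s = x ∨ s = r 2 * x ∨ s = y ∨ s = r 2 * y ∨ s = x * y ∨
          s = y * x) := by
  decide

set_option synthInstance.maxSize 2000 in
set_option synthInstance.maxHeartbeats 200000 in
theorem d8_exists_y : ∀ x : D, x ^ 2 = 1 → x ≠ 1 → x ≠ r 2 →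
    ∃ y : D, y ^ 2 = 1 ∧ y ≠ 1 ∧ y ≠ r 2 ∧ y ≠ x ∧ y ≠ r 2 * x := by
  decide

set_option synthInstance.maxSize 2000 in
set_option synthInstance.maxHeartbeats 200000 in
theorem d8_klein : ∀ u1 u2 : D, u1 ^ 2 = 1 → u2 ^ 2 = 1 → u1 ≠ 1 → u2 ≠ 1 → u1 ≠ u2 →
    u1 * u2 = u2 * u1 → u1 = r 2 ∨ u2 = r 2 ∨ u1 * u2 = r 2 := by
  decide

theorem d8_exists_x : ∃ x : D, x ^ 2 = 1 ∧ x ≠ 1 ∧ x ≠ r 2 := ⟨sr 0, by decide⟩

/-- involutions of `D` -/
theorem d8_invol : ∀ w : D, w ^ 2 = 1 → w ≠ 1 → w ≠ r 2 → (r 2 * w) ^ 2 = 1 ∧ r 2 * w ≠ 1 ∧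
    r 2 * w ≠ r 2 ∧ r 2 * w ≠ w ∧ w * r 2 = r 2 * w := by
  decide

section transport

variable {G : Type*} [Group G] {z : G}

/-- the image of `z` in the dihedral group is the central involution -/
theorem e_z (hz : orderOf z = 2) (e : centralizer ({z} : Set G) ≃* D) :
    e ⟨z, mem_centralizer_singleton_iff.mpr rfl⟩ = r 2 := by
  have hcent : ∀ h : D, e ⟨z, mem_centralizer_singleton_iff.mpr rfl⟩ * h =
      h * e ⟨z, mem_centralizer_singleton_iff.mpr rfl⟩ := by
    intro h
    obtain ⟨c, rfl⟩ := e.surjective h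
    rw [← map_mul, ← map_mul]
    congr 1
    apply Subtype.ext
    have := c.2
    rw [mem_centralizer_iff] at this
    exact (this z rfl)
  rcases d8_center _ hcent with h | h
  · exfalso
    have h1 : (⟨z, mem_centralizer_singleton_iff.mpr rfl⟩ : centralizer ({z} : Set G)) = 1 := by
      apply e.injective
      rw [h, map_one]
    have h2 : z = 1 := congrArg Subtype.val h1
    rw [h2, orderOf_one] at hz
    omega
  · exact h

end transport


/-- abstract first-order description of a dihedral group of order 8 with central involution `z` -/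
structure IsD8 (S : Type*) [Group S] (z : S) : Prop where
  card : Nat.card S = 8
  z_sq : z * z = 1
  z_ne : z ≠ 1
  z_comm : ∀ s : S, z * s = s * z
  center : ∀ s : S, (∀ c : S, s * c = c * s) → s = 1 ∨ s = z
  exists_x : ∃ x : S, x ^ 2 = 1 ∧ x ≠ 1 ∧ x ≠ z
  exists_y : ∀ x : S, x ^ 2 = 1 → x ≠ 1 → x ≠ z →
    ∃ y : S, y ^ 2 = 1 ∧ y ≠ 1 ∧ y ≠ z ∧ y ≠ x ∧ y ≠ z * x
  struct : ∀ x : S, x ^ 2 = 1 → x ≠ 1 → x ≠ z →
    ∀ y : S, y ^ 2 = 1 → y ≠ 1 → y ≠ z → y ≠ x → y ≠ z * x →
      (y * x * y⁻¹ = z * x ∧ x * y * x⁻¹ = z * y ∧ (x * y) ^ 2 = z ∧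
        ∀ s : S, s = 1 ∨ s = z ∨ s = x ∨ s = z * x ∨ s = y ∨ s = z * y ∨ s = x * y ∨ s = y * x)
  klein : ∀ u1 u2 : S, u1 ^ 2 = 1 → u2 ^ 2 = 1 → u1 ≠ 1 → u2 ≠ 1 → u1 ≠ u2 →
    u1 * u2 = u2 * u1 → u1 = z ∨ u2 = z ∨ u1 * u2 = z

theorem isD8_of_equiv {S : Type*} [Group S] {z : S} (e : S ≃* D) (he : e z = r 2) : IsD8 S z where
  card := by rw [Nat.card_congr e.toEquiv, d8_card]
  z_sq := by
    apply e.injective
    rw [map_mul, he, map_one]
    decide
  z_ne := by
    intro h
    rw [h, map_one] at he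
    revert he
    decide
  z_comm := by
    intro s
    apply e.injective
    rw [map_mul, map_mul, he]
    generalize e s = t
    revert t
    decide
  center := by
    intro s hs
    have h1 : ∀ h : D, e s * h = h * e s := by
      intro h
      obtain ⟨c, rfl⟩ := e.surjective h
      rw [← map_mul, ← map_mul, hs c]
    rcases d8_center _ h1 with h | h
    · left; apply e.injective; rw [h, map_one]
    · right; apply e.injective; rw [h, he]
  exists_x := by
    obtain ⟨x, h1, h2, h3⟩ := d8_exists_x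
    refine ⟨e.symm x, ?_, ?_, ?_⟩
    · apply e.injective; rw [map_pow, e.apply_symm_apply, h1, map_one]
    · intro h; apply h2; rw [← e.apply_symm_apply x, h, map_one]
    · intro h; apply h3; rw [← e.apply_symm_apply x, h, he]
  exists_y := by
    intro x hx2 hx1 hxz
    have h1 : (e x) ^ 2 = 1 := by rw [← map_pow, hx2, map_one]
    have h2 : e x ≠ 1 := fun h => hx1 (e.injective (by rw [h, map_one]))
    have h3 : e x ≠ r 2 := fun h => hxz (e.injective (by rw [h, he]))
    obtain ⟨y, hy1, hy2, hy3, hy4, hy5⟩ := d8_exists_y (e x) h1 h2 h3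
    refine ⟨e.symm y, ?_, ?_, ?_, ?_, ?_⟩
    · apply e.injective; rw [map_pow, e.apply_symm_apply, hy1, map_one]
    · intro h; apply hy2; rw [← e.apply_symm_apply y, h, map_one]
    · intro h; apply hy3; rw [← e.apply_symm_apply y, h, he]
    · intro h; apply hy4; rw [← e.apply_symm_apply y, h]
    · intro h; apply hy5; rw [← e.apply_symm_apply y, h, map_mul, he]
  struct := by
    intro x hx2 hx1 hxz y hy2 hy1 hyz hyx hyzx
    have h1 : (e x) ^ 2 = 1 := by rw [← map_pow, hx2, map_one]
    have h2 : e x ≠ 1 := fun h => hx1 (e.injective (by rw [h, map_one]))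
    have h3 : e x ≠ r 2 := fun h => hxz (e.injective (by rw [h, he]))
    have k1 : (e y) ^ 2 = 1 := by rw [← map_pow, hy2, map_one]
    have k2 : e y ≠ 1 := fun h => hy1 (e.injective (by rw [h, map_one]))
    have k3 : e y ≠ r 2 := fun h => hyz (e.injective (by rw [h, he]))
    have k4 : e y ≠ e x := fun h => hyx (e.injective h)
    have k5 : e y ≠ r 2 * e x := fun h => hyzx (e.injective (by rw [h, map_mul, he]))
    obtain ⟨c1, c2, c3, c4⟩ := d8_struct (e x) h1 h2 h3 (e y) k1 k2 k3 k4 k5
    refine ⟨?_, ?_, ?_, ?_⟩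
    · apply e.injective; rw [map_mul, map_mul, map_inv, c1, map_mul, he]
    · apply e.injective; rw [map_mul, map_mul, map_inv, c2, map_mul, he]
    · apply e.injective; rw [map_pow, map_mul, c3, he]
    · intro s
      rcases c4 (e s) with h | h | h | h | h | h | h | h
      · left; apply e.injective; rw [h, map_one]
      · right; left; apply e.injective; rw [h, he]
      · right; right; left; exact e.injective h
      · right; right; right; left; apply e.injective; rw [h, map_mul, he]
      · right; right; right; right; left; exact e.injective h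
      · right; right; right; right; right; left; apply e.injective; rw [h, map_mul, he]
      · right; right; right; right; right; right; left; apply e.injective; rw [h, map_mul]
      · right; right; right; right; right; right; right; apply e.injective; rw [h, map_mul]
  klein := by
    intro u1 u2 h1 h2 h3 h4 h5 h6
    have k1 : (e u1) ^ 2 = 1 := by rw [← map_pow, h1, map_one]
    have k2 : (e u2) ^ 2 = 1 := by rw [← map_pow, h2, map_one]
    have k3 : e u1 ≠ 1 := fun h => h3 (e.injective (by rw [h, map_one]))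
    have k4 : e u2 ≠ 1 := fun h => h4 (e.injective (by rw [h, map_one]))
    have k5 : e u1 ≠ e u2 := fun h => h5 (e.injective h)
    have k6 : e u1 * e u2 = e u2 * e u1 := by rw [← map_mul, ← map_mul, h6]
    rcases d8_klein _ _ k1 k2 k3 k4 k5 k6 with h | h | h
    · left; apply e.injective; rw [h, he]
    · right; left; apply e.injective; rw [h, he]
    · right; right; apply e.injective; rw [map_mul, h, he]

end Cfsg.Agent.Lib.Helper5.D8Cent
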