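import Cfsg.Agent.Lib.Helper5.D8Cent.Fusion
import Cfsg.Agent.S1254

/-!
# Case A: the central involution is isolated in its centralizer
-/

set_option autoImplicit false

namespace Cfsg.Agent.Lib.Helper5.D8Cent

open Subgroup

variable {G : Type*} [Group G]

/-- a Klein four-subgroup of the centralizer contains `z` -/
theorem Hyp.z_mem_klein {z : G} (h : Hyp z) (U : Subgroup G)
    (hU : U ≤ centralizer ({z} : Set G)) [hK : IsKleinFour U] : z ∈ U := by
  classical
  haveI : Finite U := Nat.finite_of_card_ne_zero (by rw [hK.card_four]; norm_num)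
  haveI : Fintype U := Fintype.ofFinite U
  have hcard : 2 < Fintype.card U := by
    rw [← Nat.card_eq_fintype_card, hK.card_four]; norm_num
  have hsq : ∀ u : U, (u : G) ^ 2 = 1 := by
    intro u
    have h1 : u ^ 2 = 1 := by
      rw [← hK.exponent_two]; exact Monoid.pow_exponent_eq_one u
    have := congrArg Subtype.val h1
    simpa using this
  have hcomm : ∀ u v : U, (u : G) * v = v * u := by
    intro u v
    have h1 : u * v = v * u := mul_comm_of_exponent_two hK.exponent_two u v
    have := congrArg Subtype.val h1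
    simpa using this
  -- two distinct non-identity elements
  have key : ∃ u1 u2 : U, u1 ≠ 1 ∧ u2 ≠ 1 ∧ u1 ≠ u2 := by
    obtain ⟨a, b, c, hab, hac, hbc⟩ := Fintype.two_lt_card_iff.mp hcard
    by_cases ha : a = 1
    · refine ⟨b, c, ?_, ?_, hbc⟩
      · rw [← ha]; exact fun hh => hab hh.symm
      · rw [← ha]; exact fun hh => hac hh.symm
    · by_cases hb : b = 1
      · refine ⟨a, c, ha, ?_, hac⟩
        rw [← hb]; exact fun hh => hbc hh.symm
      · exact ⟨a, b, ha, hb, hab⟩
  obtain ⟨u1, u2, n1, n2, hne⟩ := key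
  rcases h.klein (hU u1.2) (hU u2.2) (hsq u1) (hsq u2)
    (fun hh => n1 (Subtype.ext hh)) (fun hh => n2 (Subtype.ext hh))
    (fun hh => hne (Subtype.ext hh)) (hcomm u1 u2) with h1 | h1 | h1
  · rw [← h1]; exact u1.2
  · rw [← h1]; exact u2.2
  · rw [← h1]; exact U.mul_mem u1.2 u2.2

/-- Case A: if no other involution of the centralizer is fused to `z`, then `G = C O(G)` -/
theorem caseA [Finite G] {z : G} (h : Hyp z) (e : centralizer ({z} : Set G) ≃* D)
    (hA : ∀ x ∈ centralizer ({z} : Set G), x ^ 2 = 1 → x ≠ 1 → IsConj z x → x = z) :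
    centralizer ({z} : Set G) ⊔ Cfsg.oddCore G = ⊤ := by
  have : Fact (Nat.Prime 2) := ⟨Nat.prime_two⟩
  obtain ⟨S, hS⟩ := h.exists_sylow
  have eS : (S : Subgroup G) ≃* DihedralGroup 4 := (MulEquiv.subgroupCongr hS).trans e
  have hnc : Cfsg.HasNormalPComplement 2 G := by
    rw [Cfsg.Agent.S1254.result S 4 (by norm_num) eS]
    intro U hUS hK
    apply le_antisymm
    · intro g hg
      have hzU : z ∈ U := h.z_mem_klein U (hS ▸ hUS)
      have hgz : g * z * g⁻¹ ∈ U := (mem_normalizer_iff.mp hg z).mp hzU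
      have hgC : g * z * g⁻¹ ∈ centralizer ({z} : Set G) := by
        have := hUS hgz
        rwa [hS] at this
      have h2 : (g * z * g⁻¹) ^ 2 = 1 := by
        rw [conj_pow, pow_two, h.z_sq]; group
      have h1 : g * z * g⁻¹ ≠ 1 := by
        intro hh
        apply h.z_ne
        calc z = g⁻¹ * (g * z * g⁻¹) * g := by group
          _ = 1 := by rw [hh]; group
      have h3 := hA _ hgC h2 h1 (isConj_iff.mpr ⟨g, rfl⟩)
      have hgS : g ∈ (S : Subgroup G) := by
        rw [hS, mem_centralizer_singleton_iff]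
        calc g * z = (g * z * g⁻¹) * g := by group
          _ = z * g := by rw [h3]
      exact (le_sup_right : _ ≤ centralizer (U : Set G) ⊔ ((S : Subgroup G) ⊓ normalizer (U : Set G)))
        ⟨hgS, hg⟩
    · exact sup_le (centralizer_le_normalizer _) inf_le_right
  obtain ⟨P, N, hN, hc⟩ := hnc
  have h1 := hc.card_mul_card
  have hPS : Nat.card (P : Subgroup G) = Nat.card (S : Subgroup G) := by
    rw [Sylow.card_eq_multiplicity, Sylow.card_eq_multiplicity]
  have hSC : Nat.card (S : Subgroup G) = Nat.card (centralizer ({z} : Set G)) := by rw [hS]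
  have h2 : (S : Subgroup G).index = Nat.card N := by
    have h3 := (S : Subgroup G).card_mul_index
    rw [← h1, hPS, mul_comm] at h3
    exact Nat.eq_of_mul_eq_mul_right Nat.card_pos h3
  have hcop : (Nat.card N).Coprime 2 := by
    rw [← h2]
    exact (Nat.Coprime.symm ((Nat.Prime.coprime_iff_not_dvd Nat.prime_two).mpr S.not_dvd_index))
  have hle : N ≤ Cfsg.oddCore G := le_sSup ⟨hN, hcop⟩
  have hcompl : IsComplement' (centralizer ({z} : Set G)) N := by
    apply isComplement'_of_coprime
    · rw [← hSC, ← hPS, mul_comm]; exact h1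
    · rw [h.card_C]
      exact (Nat.Coprime.pow_right 3 hcop).symm
  have := hcompl.sup_eq_top
  rw [eq_top_iff, ← this]
  exact sup_le_sup_left hle _

end Cfsg.Agent.Lib.Helper5.D8Cent
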