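import Cfsg.Agent.Lib.Helper5.D8Cent.CaseC
import Cfsg.Agent.S0111

/-!
# Case B: two classes of involutions; the subgroup of index two
-/

set_option autoImplicit false

namespace Cfsg.Agent.Lib.Helper5.D8Cent

open Subgroup

variable {G : Type*} [Group G]

/-- the four-group `{1, z, x, zx}` -/
def Qs (z x : G) : Subgroup G := centralizer ({z} : Set G) ⊓ centralizer ({x} : Set G)

theorem Qs_le (z x : G) : Qs z x ≤ centralizer ({z} : Set G) := inf_le_left

/-- every 2-subgroup is conjugate into the centralizer -/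
theorem Hyp.two_group_conj_le [Finite G] {z : G} (h : Hyp z) (T : Subgroup G)
    (hT : IsPGroup 2 T) : ∃ g : G, ∀ t ∈ T, g * t * g⁻¹ ∈ centralizer ({z} : Set G) := by
  have : Fact (Nat.Prime 2) := ⟨Nat.prime_two⟩
  obtain ⟨S, hS⟩ := h.exists_sylow
  obtain ⟨P, hP⟩ := hT.exists_le_sylow
  obtain ⟨g, hg⟩ := MulAction.exists_smul_eq G P S
  refine ⟨g, fun t ht => ?_⟩
  rw [← hS, ← hg, Sylow.coe_subgroup_smul, Subgroup.mem_pointwise_smul_iff_inv_smul_mem,
    MulAut.smul_def, MulAut.conj_inv_apply]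
  have : g⁻¹ * (g * t * g⁻¹) * g = t := by group
  rw [this]
  exact hP ht

section

variable {z x y : G} (h : Hyp z) (f : Frame z x y)

include h f

theorem yx_ne_xy : y * x ≠ x * y := by
  intro h1
  rw [h.yx_eq f] at h1
  apply h.z_ne
  calc z = (z * x * y) * (x * y)⁻¹ := by group
    _ = 1 := by rw [h1]; group

theorem mem_Qs {s : G} : s ∈ Qs z x ↔ s = 1 ∨ s = z ∨ s = x ∨ s = z * x := by
  unfold Qs
  rw [mem_inf, mem_centralizer_singleton_iff, mem_centralizer_singleton_iff]
  constructor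
  · rintro ⟨h1, h2⟩
    have hs : s ∈ centralizer ({z} : Set G) := mem_centralizer_singleton_iff.mpr h1
    rcases h.mem_C f hs with h3 | h3 | h3 | h3 | h3 | h3 | h3 | h3
    · left; exact h3
    · right; left; exact h3
    · right; right; left; exact h3
    · right; right; right; exact h3
    · exfalso; rw [h3] at h2; exact yx_ne_xy h f h2
    · exfalso; rw [h3] at h2
      apply yx_ne_xy h f
      have : z * (y * x) = z * (x * y) := by
        calc z * (y * x) = z * y * x := by group
          _ = x * (z * y) := h2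
          _ = (x * z) * y := by group
          _ = z * x * y := by rw [f.xz]
          _ = z * (x * y) := by group
      exact mul_left_cancel this
    · exfalso; rw [h3] at h2
      apply yx_ne_xy h f
      have : x * (y * x) = x * (x * y) := by rw [← mul_assoc]; exact h2
      exact mul_left_cancel this
    · exfalso; rw [h3] at h2
      apply yx_ne_xy h f
      have h4 : y = x * (y * x) := by
        calc y = y * (x * x) := by rw [f.xx, mul_one]
          _ = y * x * x := by group
          _ = x * (y * x) := h2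
      calc y * x = x * (y * x) * x := by rw [← h4]
        _ = x * y * (x * x) := by group
        _ = x * y := by rw [f.xx, mul_one]
  · rintro (h1 | h1 | h1 | h1) <;> rw [h1]
    · exact ⟨by simp, by simp⟩
    · exact ⟨rfl, f.xz.symm⟩
    · exact ⟨f.xz, rfl⟩
    · constructor
      · rw [mul_assoc, f.xz]
      · rw [← mul_assoc, f.xz]

theorem card_Qs : Nat.card (Qs z x) = 4 := by
  classical
  have hset : ((Qs z x : Subgroup G) : Set G) = (({1, z, x, z * x} : Finset G) : Set G) := by
    ext s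
    simp only [SetLike.mem_coe, mem_Qs h f, Finset.coe_insert, Finset.coe_singleton,
      Set.mem_insert_iff, Set.mem_singleton_iff]
  have h1 : Nat.card (Qs z x) = Nat.card ((Qs z x : Subgroup G) : Set G) := rfl
  rw [h1, hset, Nat.card_coe_set_eq, Set.ncard_coe_finset]
  rw [Finset.card_insert_of_notMem, Finset.card_insert_of_notMem, Finset.card_insert_of_notMem,
    Finset.card_singleton]
  · simp only [Finset.mem_singleton]
    intro hh
    apply h.z_ne
    calc z = (z * x) * x⁻¹ := by group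
      _ = 1 := by rw [← hh]; group
  · simp only [Finset.mem_insert, Finset.mem_singleton, not_or]
    exact ⟨fun hh => f.hxz hh.symm, fun hh => h.zx_ne_z f hh.symm⟩
  · simp only [Finset.mem_insert, Finset.mem_singleton, not_or]
    exact ⟨fun hh => h.z_ne hh.symm, fun hh => f.hx1 hh.symm, fun hh => h.zx_ne_one f hh.symm⟩

theorem y_not_mem_Qs : y ∉ Qs z x := by
  rw [mem_Qs h f]
  rintro (h1 | h1 | h1 | h1)
  exacts [f.hy1 h1, f.hyz h1, f.hyx h1, f.hyzx h1]

theorem sq_of_mem_Qs {s : G} (hs : s ∈ Qs z x) : s ^ 2 = 1 := by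
  rcases (mem_Qs h f).mp hs with h1 | h1 | h1 | h1 <;> rw [h1]
  · exact one_pow 2
  · rw [pow_two]; exact h.z_sq
  · exact f.hx2
  · exact h.zx_sq f

theorem Qs_comm {a c : G} (ha : a ∈ Qs z x) (hc : c ∈ Qs z x) : a * c = c * a := by
  have : Fact (Nat.Prime 2) := ⟨Nat.prime_two⟩
  have key := IsPGroup.commutative_of_card_eq_prime_sq (p := 2) (G := Qs z x)
    (by rw [card_Qs h f]; norm_num)
  have := key ⟨a, ha⟩ ⟨c, hc⟩
  exact congrArg Subtype.val this

theorem isConj_of_mem_Qs (hx : IsConj z x) {s : G} (hs : s ∈ Qs z x) (hs1 : s ≠ 1) :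
    IsConj z s := by
  rcases (mem_Qs h f).mp hs with h1 | h1 | h1 | h1
  · exact absurd h1 hs1
  · rw [h1]
  · rw [h1]; exact hx
  · rw [h1]; exact h.isConj_zx f hx

/-- Thompson transfer gives a normal subgroup of index two avoiding `y` -/
theorem exists_M [Finite G] (hx : IsConj z x) (hy : ¬ IsConj z y) :
    ∃ M : Subgroup G, M.Normal ∧ M.index = 2 ∧ y ∉ M := by
  have : Fact (Nat.Prime 2) := ⟨Nat.prime_two⟩
  obtain ⟨S, hS⟩ := h.exists_sylow
  have hQS : Qs z x ≤ S := by rw [hS]; exact inf_le_left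
  have hcS : Nat.card (S : Subgroup G) = 8 := by rw [hS]; exact h.card_C
  have hQi : (Qs z x).relIndex S = 2 := by
    have h1 := Subgroup.card_mul_index ((Qs z x).subgroupOf (S : Subgroup G))
    rw [Nat.card_congr (Subgroup.subgroupOfEquivOfLe hQS).toEquiv, card_Qs h f, hcS] at h1
    unfold relIndex
    omega
  have hyo : orderOf y = 2 := orderOf_eq_prime f.hy2 f.hy1
  rcases Cfsg.Agent.S0111.result S (Qs z x) hQS hQi y hyo (by rw [hS]; exact f.hy)
    (y_not_mem_Qs h f) with hM | ⟨g, hg⟩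
  · exact hM
  · exfalso
    apply hy
    have h1 : g * y * g⁻¹ ≠ 1 := by
      intro hh
      apply f.hy1
      calc y = g⁻¹ * (g * y * g⁻¹) * g := by group
        _ = 1 := by rw [hh]; group
    have h2 := isConj_of_mem_Qs h f hx hg h1
    exact h2.trans (isConj_iff.mpr ⟨g, rfl⟩ : IsConj y (g * y * g⁻¹)).symm

end

/-- the data of case B -/
structure BHyp (z x y : G) (M : Subgroup G) : Prop where
  hyp : Hyp z
  frame : Frame z x y
  hx : IsConj z x
  hy : ¬ IsConj z y
  normal : M.Normal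
  index : M.index = 2
  hyM : y ∉ M

namespace BHyp

variable {z x y : G} {M : Subgroup G} (b : BHyp z x y M)

include b

theorem z_mem : z ∈ M := by
  rw [← b.hyp.xy_sq b.frame]
  exact sq_mem_of_index_two b.index _

theorem x_mem : x ∈ M := by
  obtain ⟨c, hc⟩ := isConj_iff.mp b.hx
  rw [← hc]
  exact b.normal.conj_mem z b.z_mem c

theorem mem_iff {s : G} (hs : s ∈ centralizer ({z} : Set G)) : s ∈ M ↔ s ∈ Qs z x := by
  rw [mem_Qs b.hyp b.frame]
  constructor
  · intro hsM
    rcases b.hyp.mem_C b.frame hs with h3 | h3 | h3 | h3 | h3 | h3 | h3 | h3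
    · left; exact h3
    · right; left; exact h3
    · right; right; left; exact h3
    · right; right; right; exact h3
    · exfalso; rw [h3] at hsM; exact b.hyM hsM
    · exfalso; rw [h3, mul_mem_iff_of_index_two b.index] at hsM
      exact b.hyM (hsM.mp b.z_mem)
    · exfalso; rw [h3, mul_mem_iff_of_index_two b.index] at hsM
      exact b.hyM (hsM.mp b.x_mem)
    · exfalso; rw [h3, mul_mem_iff_of_index_two b.index] at hsM
      exact b.hyM (hsM.mpr b.x_mem)
  · rintro (h1 | h1 | h1 | h1) <;> rw [h1]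
    exacts [M.one_mem, b.z_mem, b.x_mem, M.mul_mem b.z_mem b.x_mem]

theorem Qs_le_M : Qs z x ≤ M := fun _ hs => (b.mem_iff (Qs_le z x hs)).mpr hs

theorem mem_Qs_of {s : G} (hs : s ∈ centralizer ({z} : Set G)) (hsM : s ∈ M) : s ∈ Qs z x :=
  (b.mem_iff hs).mp hsM

/-- a fusing element inside `M` -/
theorem exists_fuse : ∃ m ∈ M, m * z * m⁻¹ = x := by
  obtain ⟨c, hc⟩ := isConj_iff.mp b.hx
  by_cases hcM : c ∈ M
  · exact ⟨c, hcM, hc⟩
  · refine ⟨c * y, ?_, ?_⟩
    · rw [mul_mem_iff_of_index_two b.index]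
      exact ⟨fun hh => absurd hh hcM, fun hh => absurd hh b.hyM⟩
    · rw [← hc]
      have := b.frame.yz
      calc c * y * z * (c * y)⁻¹ = c * (y * z) * y⁻¹ * c⁻¹ := by group
        _ = c * (z * y) * y⁻¹ * c⁻¹ := by rw [this]
        _ = c * z * c⁻¹ := by group

theorem card_G_eq [Finite G] : Nat.card G = 2 * Nat.card M := by
  have := M.card_mul_index
  rw [b.index] at this
  omega

theorem exists_odd [Finite G] : ∃ k, Odd k ∧ Nat.card G = 8 * k ∧ Nat.card M = 4 * k := by
  have : Fact (Nat.Prime 2) := ⟨Nat.prime_two⟩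
  obtain ⟨S, hS⟩ := b.hyp.exists_sylow
  have hcS : Nat.card (S : Subgroup G) = 8 := by rw [hS]; exact b.hyp.card_C
  have h1 := (S : Subgroup G).card_mul_index
  rw [hcS] at h1
  have h2 := b.card_G_eq
  refine ⟨(S : Subgroup G).index, ?_, h1.symm, by omega⟩
  rw [Nat.odd_iff]
  have := S.not_dvd_index
  omega

theorem C_ne_top : centralizer ({z} : Set G) ≠ ⊤ := by
  intro htop
  obtain ⟨c, hc⟩ := isConj_iff.mp b.hx
  have hcC : c ∈ centralizer ({z} : Set G) := by rw [htop]; exact mem_top c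
  apply b.frame.hxz
  rw [← hc, mem_centralizer_singleton_iff.mp hcC]
  group

theorem card_ne_eight [Finite G] : Nat.card G ≠ 8 := by
  intro h8
  apply b.C_ne_top
  apply Subgroup.eq_top_of_card_eq
  rw [b.hyp.card_C, h8]

/-- no conjugate of `z` is central in `M` -/
theorem no_central_conj (c : G)
    (hc : ∀ m ∈ M, m * (c * z * c⁻¹) = (c * z * c⁻¹) * m) : False := by
  obtain ⟨m0, hm0, hm0x⟩ := b.exists_fuse
  have key : ∀ m ∈ M, c⁻¹ * m * c ∈ Qs z x := by
    intro m hm
    have h1 : c⁻¹ * m * c ∈ M := by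
      have := b.normal.conj_mem m hm c⁻¹
      simpa using this
    have h2 : c⁻¹ * m * c ∈ centralizer ({z} : Set G) := by
      rw [mem_centralizer_singleton_iff]
      have := hc m hm
      calc c⁻¹ * m * c * z = c⁻¹ * (m * (c * z * c⁻¹)) * c := by group
        _ = c⁻¹ * ((c * z * c⁻¹) * m) * c := by rw [this]
        _ = z * (c⁻¹ * m * c) := by group
    exact (b.mem_iff h2).mp h1
  have ha := key m0 hm0
  have hb := key z b.z_mem
  have h1 := Qs_comm b.hyp b.frame ha hb
  apply b.frame.hxz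
  have h2 : m0 * z = z * m0 := by
    calc m0 * z = c * ((c⁻¹ * m0 * c) * (c⁻¹ * z * c)) * c⁻¹ := by group
      _ = c * ((c⁻¹ * z * c) * (c⁻¹ * m0 * c)) * c⁻¹ := by rw [h1]
      _ = z * m0 := by group
  rw [← hm0x, h2]
  group

/-- involutions of `M` are conjugate to `z` -/
theorem isConj_of_invol_mem [Finite G] {t : G} (htM : t ∈ M) (ht2 : t ^ 2 = 1) (ht1 : t ≠ 1) :
    IsConj z t := by
  obtain ⟨g, hg⟩ := b.hyp.invol_conj_mem ht2 ht1
  have h1 : g * t * g⁻¹ ∈ M := b.normal.conj_mem t htM g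
  have h2 : g * t * g⁻¹ ≠ 1 := by
    intro hh
    apply ht1
    calc t = g⁻¹ * (g * t * g⁻¹) * g := by group
      _ = 1 := by rw [hh]; group
  have h3 := isConj_of_mem_Qs b.hyp b.frame b.hx (b.mem_Qs_of hg h1) h2
  exact h3.trans (isConj_iff.mpr ⟨g, rfl⟩ : IsConj t (g * t * g⁻¹)).symm

end BHyp

end Cfsg.Agent.Lib.Helper5.D8Cent
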