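import Cfsg.Agent.Lib.Helper5.D8Cent.CaseB1
import Cfsg.Agent.S3277
import Cfsg.Agent.Lib.Lead.NormalPComplement

/-!
# Case B: the structure of the subgroup of index two
-/

set_option autoImplicit false

namespace Cfsg.Agent.Lib.Helper5.D8Cent

open Subgroup

variable {G : Type*} [Group G]

namespace BHyp

variable {z x y : G} {M : Subgroup G} (b : BHyp z x y M)

include b

/-- the centralizer of `z` in `M` -/
theorem mem_centM (c : M) :
    c ∈ centralizer ({(⟨z, b.z_mem⟩ : M)} : Set M) ↔ (c : G) ∈ Qs z x := by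
  rw [mem_centralizer_singleton_iff]
  constructor
  · intro hc
    have h1 : (c : G) * z = z * c := by
      have := congrArg Subtype.val hc
      simpa using this
    exact b.mem_Qs_of (mem_centralizer_singleton_iff.mpr h1) c.2
  · intro hc
    apply Subtype.ext
    have := mem_centralizer_singleton_iff.mp (Qs_le z x hc)
    simpa using this

theorem card_centM : Nat.card (centralizer ({(⟨z, b.z_mem⟩ : M)} : Set M)) = 4 := by
  rw [← card_Qs b.hyp b.frame]
  apply Nat.card_congr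
  exact
    { toFun := fun c => ⟨c.1.1, (b.mem_centM c.1).mp c.2⟩
      invFun := fun q => ⟨⟨q.1, b.Qs_le_M q.2⟩, (b.mem_centM _).mpr q.2⟩
      left_inv := fun c => rfl
      right_inv := fun q => rfl }

theorem not_hasNormalPComplement [Finite G] : ¬ Cfsg.HasNormalPComplement 2 ↥M := by
  intro hnc
  have : Fact (Nat.Prime 2) := ⟨Nat.prime_two⟩
  obtain ⟨N, hN, hcop, k, hk⟩ :=
    Cfsg.Agent.Lib.Lead.NormalPComplement.exists_normal_of_hasNormalPComplement hnc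
  obtain ⟨k', hk'odd, hG, hM⟩ := b.exists_odd
  have h1 := N.card_mul_index
  rw [hk, hM] at h1
  have h4 : 2 ^ k = 4 := by
    have hc4 : Nat.Coprime (Nat.card N) 4 := by
      have := Nat.Coprime.pow_right 2 hcop
      norm_num at this
      exact this
    have d1 : 4 ∣ 2 ^ k := by
      have : 4 ∣ Nat.card N * 2 ^ k := ⟨k', h1⟩
      exact (Nat.Coprime.dvd_mul_left hc4.symm).mp this
    have d2 : 2 ^ k ∣ 4 := by
      have : 2 ^ k ∣ 4 * k' := ⟨Nat.card N, by rw [← h1, mul_comm]⟩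
      have hc : Nat.Coprime (2 ^ k) k' :=
        Nat.Coprime.pow_left k (Nat.coprime_two_left.mpr hk'odd)
      exact (Nat.Coprime.dvd_mul_right hc).mp this
    exact Nat.dvd_antisymm d2 d1
  have hq : Nat.card (↥M ⧸ N) = 2 ^ 2 := by
    rw [← Subgroup.index_eq_card, hk, h4]
    norm_num
  have hcomm := IsPGroup.commutative_of_card_eq_prime_sq (p := 2) hq
  obtain ⟨m0, hm0, hm0x⟩ := b.exists_fuse
  obtain ⟨zM, hzM⟩ : ∃ zM : M, zM = ⟨z, b.z_mem⟩ := ⟨_, rfl⟩
  obtain ⟨xM, hxM⟩ : ∃ xM : M, xM = ⟨x, b.x_mem⟩ := ⟨_, rfl⟩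
  obtain ⟨mM, hmM⟩ : ∃ mM : M, mM = ⟨m0, hm0⟩ := ⟨_, rfl⟩
  have e1 : xM = mM * zM * mM⁻¹ := by
    rw [hxM, hzM, hmM]
    exact Subtype.ext hm0x.symm
  have e2 : (QuotientGroup.mk xM : ↥M ⧸ N) = QuotientGroup.mk zM := by
    rw [e1, QuotientGroup.mk_mul, QuotientGroup.mk_mul, QuotientGroup.mk_inv,
      hcomm (QuotientGroup.mk mM) (QuotientGroup.mk zM), mul_inv_cancel_right]
  have e3 : zM⁻¹ * xM ∈ N := QuotientGroup.eq.mp e2.symm
  have e3' : zM⁻¹ * xM = ⟨z * x, M.mul_mem b.z_mem b.x_mem⟩ := by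
    rw [hzM, hxM]
    apply Subtype.ext
    simp only [Subgroup.coe_mul, Subgroup.coe_inv]
    rw [b.hyp.z_inv]
  have e4 : (zM⁻¹ * xM) ^ 2 = 1 := by
    rw [e3']
    apply Subtype.ext
    simp only [Subgroup.coe_pow, Subgroup.coe_one]
    exact b.hyp.zx_sq b.frame
  have e5 : (zM⁻¹ * xM) ^ Nat.card N = 1 := by
    have h5 : (⟨zM⁻¹ * xM, e3⟩ : N) ^ Nat.card N = 1 := pow_card_eq_one'
    have h6 := congrArg Subtype.val h5
    simp only [Subgroup.coe_pow, Subgroup.coe_one] at h6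
    exact h6
  have e6 : zM⁻¹ * xM = 1 := by
    have d1 := orderOf_dvd_of_pow_eq_one e4
    have d2 := orderOf_dvd_of_pow_eq_one e5
    have d3 := Nat.dvd_gcd d2 d1
    rw [hcop] at d3
    exact orderOf_eq_one_iff.mp (Nat.dvd_one.mp d3)
  rw [e3'] at e6
  have e7 : z * x = 1 := congrArg Subtype.val e6
  exact b.hyp.zx_ne_one b.frame e7

theorem no_normal_two [Finite G] (E : Subgroup M) (hE : E.Normal)
    (hel : Cfsg.IsElementaryAbelian 2 E) : Nat.card E ≠ 2 := by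
  intro h2
  haveI : Finite E := Nat.finite_of_card_ne_zero (by rw [h2]; norm_num)
  have hnt : Nontrivial E := Finite.one_lt_card_iff_nontrivial.mp (by rw [h2]; norm_num)
  obtain ⟨t, ht⟩ := exists_ne (1 : E)
  have hall : ∀ e : E, e = 1 ∨ e = t := by
    by_contra hcon
    push Not at hcon
    obtain ⟨e, he1, het⟩ := hcon
    have : 2 < Nat.card E := by
      haveI := Fintype.ofFinite E
      rw [Nat.card_eq_fintype_card, Fintype.two_lt_card_iff]
      exact ⟨1, t, e, ht.symm, he1.symm, fun hh => het hh.symm⟩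
    omega
  have ht1M : (t : M) ≠ 1 := fun hh => ht (Subtype.ext hh)
  have hcen : ∀ m : M, m * t.1 * m⁻¹ = t.1 := by
    intro m
    have h3 : m * t.1 * m⁻¹ ∈ E := hE.conj_mem t.1 t.2 m
    rcases hall ⟨_, h3⟩ with h4 | h4
    · exfalso
      apply ht1M
      have h5 : m * t.1 * m⁻¹ = 1 := congrArg Subtype.val h4
      calc (t : M) = m⁻¹ * (m * t.1 * m⁻¹) * m := by group
        _ = 1 := by rw [h5]; group
    · exact congrArg Subtype.val h4
  have ht2 : ((t.1 : M) : G) ^ 2 = 1 := by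
    have := hel.2 t.1 t.2
    have := congrArg Subtype.val this
    simpa using this
  have ht1 : ((t.1 : M) : G) ≠ 1 := fun hh => ht1M (Subtype.ext hh)
  obtain ⟨c, hc⟩ := isConj_iff.mp (b.isConj_of_invol_mem t.1.2 ht2 ht1)
  apply b.no_central_conj c
  intro m hm
  rw [hc]
  have h5 : m * ((t.1 : M) : G) * m⁻¹ = t.1 := congrArg Subtype.val (hcen ⟨m, hm⟩)
  calc m * ((t.1 : M) : G) = (m * ((t.1 : M) : G) * m⁻¹) * m := by group
    _ = ((t.1 : M) : G) * m := by rw [h5]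

theorem normal_four [Finite G] (E : Subgroup M) (hE : E.Normal) (h4 : Nat.card E = 4) :
    ∀ m ∈ M, ∀ q ∈ Qs z x, m * q * m⁻¹ ∈ Qs z x := by
  have : Fact (Nat.Prime 2) := ⟨Nat.prime_two⟩
  obtain ⟨E', hE'⟩ : ∃ E' : Subgroup G, E' = E.map M.subtype := ⟨_, rfl⟩
  have hcard : Nat.card E' = 4 := by
    rw [hE', Subgroup.card_map_of_injective (Subgroup.subtype_injective M), h4]
  have hp : IsPGroup 2 E' := IsPGroup.of_card (n := 2) (by rw [hcard]; norm_num)
  obtain ⟨g, hg⟩ := b.hyp.two_group_conj_le E' hp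
  have hE'M : E' ≤ M := by
    rw [hE']
    rintro _ ⟨e, _, rfl⟩
    exact e.2
  have hmap : ∀ e ∈ E', g * e * g⁻¹ ∈ Qs z x := fun e he =>
    b.mem_Qs_of (hg e he) (b.normal.conj_mem e (hE'M he) g)
  obtain ⟨φ, hφ⟩ : ∃ φ : E' → Qs z x, ∀ e : E', (φ e : G) = g * e.1 * g⁻¹ :=
    ⟨fun e => ⟨g * e.1 * g⁻¹, hmap e.1 e.2⟩, fun e => rfl⟩
  have hinj : Function.Injective φ := by
    intro a c hac
    have h1 : g * a.1 * g⁻¹ = g * c.1 * g⁻¹ := by
      rw [← hφ, ← hφ, hac]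
    exact Subtype.ext (mul_left_cancel (mul_right_cancel h1))
  have hbij : Function.Bijective φ :=
    (Nat.bijective_iff_injective_and_card φ).mpr ⟨hinj, by rw [hcard, card_Qs b.hyp b.frame]⟩
  intro m hm q hq
  obtain ⟨e, he⟩ := hbij.2 ⟨q, hq⟩
  have hq' : q = g * e.1 * g⁻¹ := by
    rw [← hφ, he]
  have hm' : g⁻¹ * m * g ∈ M := by
    have := b.normal.conj_mem m hm g⁻¹
    simpa using this
  have he' : (g⁻¹ * m * g) * e.1 * (g⁻¹ * m * g)⁻¹ ∈ E' := by
    have hE'mem : ∀ a : G, a ∈ E' ↔ a ∈ E.map M.subtype := fun a => by rw [hE']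
    obtain ⟨e0, he0, he0e⟩ := (hE'mem _).mp e.2
    rw [hE'mem]
    refine ⟨⟨g⁻¹ * m * g, hm'⟩ * e0 * ⟨g⁻¹ * m * g, hm'⟩⁻¹, hE.conj_mem e0 he0 _, ?_⟩
    rw [← he0e]
    rfl
  have := hmap _ he'
  have h6 : g * ((g⁻¹ * m * g) * e.1 * (g⁻¹ * m * g)⁻¹) * g⁻¹ = m * q * m⁻¹ := by
    rw [hq']; group
  rwa [h6] at this

/-- the dichotomy -/
theorem split [Finite G] : (∀ m ∈ M, ∀ q ∈ Qs z x, m * q * m⁻¹ ∈ Qs z x) ∨
    Nonempty (↥M ≃* ↥(alternatingGroup (Fin 5))) := by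
  by_cases hE4 : ∃ E : Subgroup M, E.Normal ∧ Nat.card E = 4
  · left
    obtain ⟨E, hE, h4⟩ := hE4
    exact b.normal_four E hE h4
  · right
    apply Cfsg.Agent.S3277.result (⟨z, b.z_mem⟩ : M) ?_ b.card_centM ?_
      b.not_hasNormalPComplement ?_
    · rw [Subgroup.orderOf_mk]; exact b.hyp.ord
    · intro c hc
      apply Subtype.ext
      have := sq_of_mem_Qs b.hyp b.frame ((b.mem_centM c).mp hc)
      simpa using this
    · intro E hE hel
      exact ⟨b.no_normal_two E hE hel, fun h4 => hE4 ⟨E, hE, h4⟩⟩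

end BHyp

end Cfsg.Agent.Lib.Helper5.D8Cent
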