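import Cfsg.Agent.Lib.Helper5.D8Cent.CaseB2
import Cfsg.Agent.H9.Ord504A
import Cfsg.Agent.S1012

/-!
# Case B, first branch: the four-group is normal in `M`, and `G` is the symmetric group of degree 4
-/

set_option autoImplicit false

namespace Cfsg.Agent.Lib.Helper5.D8Cent

open Subgroup

theorem card_subtype_le_three {α : Type*} (p : α → Prop) (a c d : α)
    (hp : ∀ t, p t → t = a ∨ t = c ∨ t = d) : Nat.card {t // p t} ≤ 3 := by
  classical
  have h1 : {t | p t} ⊆ (({a, c, d} : Finset α) : Set α) := by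
    intro t ht
    simp only [Finset.coe_insert, Finset.coe_singleton, Set.mem_insert_iff,
      Set.mem_singleton_iff]
    exact hp t ht
  have h2 : Nat.card {t // p t} = Set.ncard {t | p t} := by
    rw [← Nat.card_coe_set_eq]
    rfl
  rw [h2]
  calc Set.ncard {t | p t} ≤ Set.ncard (({a, c, d} : Finset α) : Set α) :=
        Set.ncard_le_ncard h1 (Finset.finite_toSet _)
    _ = ({a, c, d} : Finset α).card := Set.ncard_coe_finset _
    _ ≤ 3 := Finset.card_le_three

variable {G : Type*} [Group G]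

namespace BHyp

variable {z x y : G} {M : Subgroup G} (b : BHyp z x y M)
  (hQn : ∀ m ∈ M, ∀ q ∈ Qs z x, m * q * m⁻¹ ∈ Qs z x)

include b hQn

theorem z_mem_Qs : z ∈ Qs z x := (mem_Qs b.hyp b.frame).mpr (Or.inr (Or.inl rfl))

theorem card_G_24 [Finite G] : Nat.card G = 24 := by
  obtain ⟨k', hk'odd, hG, hM⟩ := b.exists_odd
  have h1 := Cfsg.Agent.H9.Ord504.card_centralizer_mul_card_conj (⟨z, b.z_mem⟩ : M)
  rw [b.card_centM] at h1
  have h2 : Nat.card {t : M // ∃ g : M, g * (⟨z, b.z_mem⟩ : M) * g⁻¹ = t} ≤ 3 := by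
    apply card_subtype_le_three _ (⟨z, b.z_mem⟩ : M) (⟨x, b.x_mem⟩ : M)
      (⟨z * x, M.mul_mem b.z_mem b.x_mem⟩ : M)
    rintro t ⟨g, rfl⟩
    have h3 : (g : G) * z * (g : G)⁻¹ ∈ Qs z x := hQn g g.2 z (z_mem_Qs b hQn)
    rcases (mem_Qs b.hyp b.frame).mp h3 with h4 | h4 | h4 | h4
    · exfalso
      apply b.hyp.z_ne
      calc z = (g : G)⁻¹ * ((g : G) * z * (g : G)⁻¹) * g := by group
        _ = 1 := by rw [h4]; group
    · left; exact Subtype.ext h4
    · right; left; exact Subtype.ext h4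
    · right; right; exact Subtype.ext h4
  have h8 := b.card_ne_eight
  have hk3 : k' ≤ 3 := by
    rw [hM] at h1
    nlinarith
  obtain ⟨j, hj⟩ := hk'odd
  have : k' = 3 := by omega
  omega

theorem order_three_comm_y_false [Finite G] {s : G} (hs3 : s ^ 3 = 1) (hs1 : s ≠ 1)
    (hys : y * s = s * y) : False := by
  have hsM : s ∈ M := by
    have h1 : s = (s ^ 2) ^ 2 := by
      rw [← pow_mul]
      calc s = s ^ 3 * s := by rw [hs3, one_mul]
        _ = s ^ (2 * 2) := by group
    rw [h1]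
    exact sq_mem_of_index_two b.index _
  have hq : s * z * s⁻¹ ∈ Qs z x := hQn s hsM z (z_mem_Qs b hQn)
  have hys' : y * s⁻¹ = s⁻¹ * y := by
    calc y * s⁻¹ = s⁻¹ * (s * y) * s⁻¹ := by group
      _ = s⁻¹ * (y * s) * s⁻¹ := by rw [hys]
      _ = s⁻¹ * y := by group
  have hqy : y * (s * z * s⁻¹) = (s * z * s⁻¹) * y := by
    calc y * (s * z * s⁻¹) = (y * s) * z * s⁻¹ := by group
      _ = s * (y * z) * s⁻¹ := by rw [hys]; group
      _ = s * z * (y * s⁻¹) := by rw [b.frame.yz]; group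
      _ = (s * z * s⁻¹) * y := by rw [hys']; group
  have hcomm : z * s = s * z := by
    rcases (mem_Qs b.hyp b.frame).mp hq with h4 | h4 | h4 | h4
    · exfalso
      apply b.hyp.z_ne
      calc z = s⁻¹ * (s * z * s⁻¹) * s := by group
        _ = 1 := by rw [h4]; group
    · calc z * s = (s * z * s⁻¹) * s := by rw [h4]
        _ = s * z := by group
    · exfalso
      rw [h4] at hqy
      exact yx_ne_xy b.hyp b.frame hqy
    · exfalso
      rw [h4] at hqy
      apply yx_ne_xy b.hyp b.frame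
      have : z * (y * x) = z * (x * y) := by
        calc z * (y * x) = (z * y) * x := by group
          _ = (y * z) * x := by rw [b.frame.yz]
          _ = y * (z * x) := by group
          _ = z * x * y := hqy
          _ = z * (x * y) := by group
      exact mul_left_cancel this
  have h8 : s ^ 8 = 1 := b.hyp.pow_eight_of_comm (w := z) (g := 1) (by group) hcomm
  have h9 : s ^ 9 = 1 := by
    rw [show 9 = 3 * 3 from rfl, pow_mul, hs3, one_pow]
  apply hs1
  calc s = s ^ 9 * (s ^ 8)⁻¹ := by group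
    _ = 1 := by rw [h9, h8]; group

theorem order_three_false [Finite G] {s t : G} (hs3 : s ^ 3 = 1) (hs1 : s ≠ 1)
    (ht2 : t ^ 2 = 1) (ht1 : t ≠ 1) (hts : t * s = s * t) : False := by
  obtain ⟨c, hc⟩ := b.hyp.invol_conj_mem ht2 ht1
  have h2 : (c * t * c⁻¹) ^ 2 = 1 := by rw [conj_pow, ht2]; group
  have h1 : c * t * c⁻¹ ≠ 1 := by
    intro hh
    apply ht1
    calc t = c⁻¹ * (c * t * c⁻¹) * c := by group
      _ = 1 := by rw [hh]; group
  have hs3' : (c * s * c⁻¹) ^ 3 = 1 := by rw [conj_pow, hs3]; group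
  have hs1' : c * s * c⁻¹ ≠ 1 := by
    intro hh
    apply hs1
    calc s = c⁻¹ * (c * s * c⁻¹) * c := by group
      _ = 1 := by rw [hh]; group
  have hts' : (c * t * c⁻¹) * (c * s * c⁻¹) = (c * s * c⁻¹) * (c * t * c⁻¹) := by
    calc (c * t * c⁻¹) * (c * s * c⁻¹) = c * (t * s) * c⁻¹ := by group
      _ = c * (s * t) * c⁻¹ := by rw [hts]
      _ = (c * s * c⁻¹) * (c * t * c⁻¹) := by group
  -- the case of a conjugate of z
  have hconj : IsConj z (c * t * c⁻¹) → False := by
    intro hcz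
    obtain ⟨d, hd⟩ := isConj_iff.mp hcz
    have h8 : (c * s * c⁻¹) ^ 8 = 1 := b.hyp.pow_eight_of_comm hd.symm hts'
    have h9 : (c * s * c⁻¹) ^ 9 = 1 := by
      rw [show 9 = 3 * 3 from rfl, pow_mul, hs3', one_pow]
    apply hs1'
    calc c * s * c⁻¹ = (c * s * c⁻¹) ^ 9 * ((c * s * c⁻¹) ^ 8)⁻¹ := by group
      _ = 1 := by rw [h9, h8]; group
  rcases b.hyp.invol b.frame hc h2 h1 with h4 | h4 | h4 | h4 | h4
  · apply hconj; rw [h4]
  · apply hconj; rw [h4]; exact b.hx
  · apply hconj; rw [h4]; exact b.hyp.isConj_zx b.frame b.hx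
  · rw [h4] at hts'
    exact order_three_comm_y_false b hQn hs3' hs1' hts'
  · rw [h4] at hts'
    -- conjugate by x
    have hxzy : x * (z * y) * x⁻¹ = y := by
      have := b.hyp.xyx b.frame
      calc x * (z * y) * x⁻¹ = (x * z) * y * x⁻¹ := by group
        _ = (z * x) * y * x⁻¹ := by rw [b.frame.xz]
        _ = z * (x * y * x⁻¹) := by group
        _ = z * (z * y) := by rw [this]
        _ = (z * z) * y := by group
        _ = y := by rw [b.hyp.z_sq, one_mul]
    have hs3'' : (x * (c * s * c⁻¹) * x⁻¹) ^ 3 = 1 := by rw [conj_pow, hs3']; group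
    have hs1'' : x * (c * s * c⁻¹) * x⁻¹ ≠ 1 := by
      intro hh
      apply hs1'
      calc c * s * c⁻¹ = x⁻¹ * (x * (c * s * c⁻¹) * x⁻¹) * x := by group
        _ = 1 := by rw [hh]; group
    have hts'' : y * (x * (c * s * c⁻¹) * x⁻¹) = (x * (c * s * c⁻¹) * x⁻¹) * y := by
      calc y * (x * (c * s * c⁻¹) * x⁻¹) = (x * (z * y) * x⁻¹) * (x * (c * s * c⁻¹) * x⁻¹) := by
            rw [hxzy]
        _ = x * ((z * y) * (c * s * c⁻¹)) * x⁻¹ := by group
        _ = x * ((c * s * c⁻¹) * (z * y)) * x⁻¹ := by rw [hts']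
        _ = (x * (c * s * c⁻¹) * x⁻¹) * (x * (z * y) * x⁻¹) := by group
        _ = (x * (c * s * c⁻¹) * x⁻¹) * y := by rw [hxzy]
    exact order_three_comm_y_false b hQn hs3'' hs1'' hts''

theorem no_order_six [Finite G] (g : G) : orderOf g ≠ 6 := by
  intro h6
  have hg6 : g ^ 6 = 1 := by rw [← h6]; exact pow_orderOf_eq_one g
  apply order_three_false b hQn (s := g ^ 2) (t := g ^ 3)
  · rw [← pow_mul]; exact hg6
  · intro hh
    have := orderOf_dvd_of_pow_eq_one hh
    rw [h6] at this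
    omega
  · rw [← pow_mul]; exact hg6
  · intro hh
    have := orderOf_dvd_of_pow_eq_one hh
    rw [h6] at this
    omega
  · rw [← pow_add, ← pow_add]

theorem sym4 [Finite G] : Nonempty (G ≃* Equiv.Perm (Fin 4)) :=
  Cfsg.Agent.S1012.result (b.card_G_24 hQn) (b.no_order_six hQn)

end BHyp

end Cfsg.Agent.Lib.Helper5.D8Cent
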