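import Cfsg.Agent.Lib.Helper5.D8Cent.CaseB2
import Cfsg.Agent.H9.Ord504A

/-!
# Case B, second branch: `M` is the alternating group of degree 5, and `G` is the symmetric group
-/

set_option autoImplicit false

namespace Cfsg.Agent.Lib.Helper5.D8Cent

open Subgroup

theorem card_a5 : Nat.card (alternatingGroup (Fin 5)) = 60 := by
  have h := two_mul_nat_card_alternatingGroup (α := Fin 5)
  rw [Nat.card_perm, Nat.card_eq_fintype_card (α := Fin 5), Fintype.card_fin] at h
  have h5 : Nat.factorial 5 = 120 := rfl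
  omega

theorem card_subtype_le_three' {α : Type*} (p : α → Prop) (a c d : α)
    (hp : ∀ t, p t → t = a ∨ t = c ∨ t = d) : Nat.card {t // p t} ≤ 3 := by
  classical
  have h1 : {t | p t} ⊆ (({a, c, d} : Finset α) : Set α) := by
    intro t ht
    simp only [Finset.coe_insert, Finset.coe_singleton, Set.mem_insert_iff,
      Set.mem_singleton_iff]
    exact hp t ht
  have h2 : Nat.card {t // p t} = Set.ncard {t | p t} := by
    rw [← Nat.card_coe_set_eq]
    rfl
  rw [h2]
  calc Set.ncard {t | p t} ≤ Set.ncard (({a, c, d} : Finset α) : Set α) :=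
        Set.ncard_le_ncard h1 (Finset.finite_toSet _)
    _ = ({a, c, d} : Finset α).card := Set.ncard_coe_finset _
    _ ≤ 3 := Finset.card_le_three

variable {G : Type*} [Group G]

/-- for finite subgroups, invariance suffices for normalizing -/
theorem mem_normalizer_of_finite (Q : Subgroup G) [Finite Q] (g : G)
    (hg : ∀ q ∈ Q, g * q * g⁻¹ ∈ Q) : g ∈ normalizer (Q : Set G) := by
  rw [mem_normalizer_iff]
  intro n
  refine ⟨hg n, fun hn => ?_⟩
  obtain ⟨φ, hφ⟩ : ∃ φ : Q → Q, ∀ q : Q, (φ q : G) = g * q.1 * g⁻¹ :=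
    ⟨fun q => ⟨g * q.1 * g⁻¹, hg q.1 q.2⟩, fun q => rfl⟩
  have hinj : Function.Injective φ := by
    intro a c hac
    have h1 : g * a.1 * g⁻¹ = g * c.1 * g⁻¹ := by rw [← hφ, ← hφ, hac]
    exact Subtype.ext (mul_left_cancel (mul_right_cancel h1))
  obtain ⟨q, hq⟩ := Finite.surjective_of_injective hinj ⟨_, hn⟩
  have h2 : g * q.1 * g⁻¹ = g * n * g⁻¹ := by rw [← hφ, hq]
  have h3 : (q : G) = n := mul_left_cancel (mul_right_cancel h2)
  rw [← h3]
  exact q.2

namespace BHyp

variable {z x y : G} {M : Subgroup G} (b : BHyp z x y M)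

include b

theorem z_mem_Qs' : z ∈ Qs z x := (mem_Qs b.hyp b.frame).mpr (Or.inr (Or.inl rfl))

theorem finite_Qs : Finite (Qs z x) :=
  Nat.finite_of_card_ne_zero (by rw [card_Qs b.hyp b.frame]; norm_num)

theorem C_le_normalizer : centralizer ({z} : Set G) ≤ normalizer ((Qs z x : Subgroup G) : Set G) := by
  intro c hc
  haveI := b.finite_Qs
  apply mem_normalizer_of_finite
  intro q hq
  apply b.mem_Qs_of
  · exact mul_mem (mul_mem hc (Qs_le z x hq)) (inv_mem hc)
  · exact b.normal.conj_mem q (b.Qs_le_M hq) c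

theorem fuse_mem_normalizer {c0 : G} (hc0M : c0 ∈ M) (hc0 : c0 * z * c0⁻¹ = x) :
    c0 ∈ normalizer ((Qs z x : Subgroup G) : Set G) := by
  haveI := b.finite_Qs
  have h1 : c0⁻¹ ∈ normalizer ((Qs z x : Subgroup G) : Set G) := by
    apply mem_normalizer_of_finite
    intro q hq
    rw [inv_inv]
    apply b.mem_Qs_of
    · rw [mem_centralizer_singleton_iff]
      have hqx : q * x = x * q := by
        have : q ∈ centralizer ({x} : Set G) := (inf_le_right : Qs z x ≤ _) hq
        exact mem_centralizer_singleton_iff.mp this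
      have hz : z = c0⁻¹ * x * c0 := by rw [← hc0]; group
      calc c0⁻¹ * q * c0 * z = c0⁻¹ * q * c0 * (c0⁻¹ * x * c0) := by rw [← hz]
        _ = c0⁻¹ * (q * x) * c0 := by group
        _ = c0⁻¹ * (x * q) * c0 := by rw [hqx]
        _ = (c0⁻¹ * x * c0) * (c0⁻¹ * q * c0) := by group
        _ = z * (c0⁻¹ * q * c0) := by rw [← hz]
    · have := b.normal.conj_mem q (b.Qs_le_M hq) c0⁻¹
      simpa using this
  have := inv_mem h1
  rwa [inv_inv] at this

theorem card_normalizer [Finite G] (hG : Nat.card G = 120) :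
    Nat.card (normalizer ((Qs z x : Subgroup G) : Set G)) = 24 := by
  obtain ⟨H, hH⟩ : ∃ H : Subgroup G, H = normalizer ((Qs z x : Subgroup G) : Set G) := ⟨_, rfl⟩
  rw [← hH]
  have hCH : centralizer ({z} : Set G) ≤ H := by rw [hH]; exact b.C_le_normalizer
  have hzH : z ∈ H := hCH b.hyp.z_mem
  have h1 := Cfsg.Agent.H9.Ord504.card_centralizer_mul_card_conj (⟨z, hzH⟩ : H)
  have hmemc : ∀ c : H, c ∈ centralizer ({(⟨z, hzH⟩ : H)} : Set H) ↔
      (c : G) ∈ centralizer ({z} : Set G) := by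
    intro c
    rw [mem_centralizer_singleton_iff, mem_centralizer_singleton_iff]
    constructor
    · intro hc
      have := congrArg Subtype.val hc
      simpa using this
    · intro hc
      apply Subtype.ext
      simpa using hc
  have h2 : Nat.card (centralizer ({(⟨z, hzH⟩ : H)} : Set H)) = 8 := by
    rw [← b.hyp.card_C]
    apply Nat.card_congr
    exact
      { toFun := fun c => ⟨c.1.1, (hmemc c.1).mp c.2⟩
        invFun := fun q => ⟨⟨q.1, hCH q.2⟩, (hmemc _).mpr q.2⟩
        left_inv := fun c => rfl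
        right_inv := fun q => rfl }
  rw [h2] at h1
  obtain ⟨c0, hc0M, hc0⟩ := b.exists_fuse
  have hc0H : c0 ∈ H := by rw [hH]; exact b.fuse_mem_normalizer hc0M hc0
  have hxH : x ∈ H := hCH b.frame.hx
  have h3 : Nat.card {t : H // ∃ g : H, g * (⟨z, hzH⟩ : H) * g⁻¹ = t} ≤ 3 := by
    apply card_subtype_le_three' _ (⟨z, hzH⟩ : H) (⟨x, hxH⟩ : H)
      (⟨z * x, H.mul_mem hzH hxH⟩ : H)
    rintro t ⟨g, rfl⟩
    have hg : (g : G) ∈ normalizer ((Qs z x : Subgroup G) : Set G) := by rw [← hH]; exact g.2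
    have h3 : (g : G) * z * (g : G)⁻¹ ∈ Qs z x := (mem_normalizer_iff.mp hg z).mp b.z_mem_Qs'
    rcases (mem_Qs b.hyp b.frame).mp h3 with h4 | h4 | h4 | h4
    · exfalso
      apply b.hyp.z_ne
      calc z = (g : G)⁻¹ * ((g : G) * z * (g : G)⁻¹) * g := by group
        _ = 1 := by rw [h4]; group
    · left; exact Subtype.ext h4
    · right; left; exact Subtype.ext h4
    · right; right; exact Subtype.ext h4
  have h4 : 1 < Nat.card {t : H // ∃ g : H, g * (⟨z, hzH⟩ : H) * g⁻¹ = t} := by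
    rw [Finite.one_lt_card_iff_nontrivial]
    refine ⟨⟨⟨⟨z, hzH⟩, 1, by group⟩, ⟨⟨x, hxH⟩, ⟨c0, hc0H⟩, Subtype.ext hc0⟩, ?_⟩⟩
    intro hh
    have h5 := congrArg (fun t => ((t.1 : H) : G)) hh
    exact b.frame.hxz h5.symm
  have h5 : Nat.card H ∣ Nat.card G := Subgroup.card_subgroup_dvd_card H
  rw [hG, ← h1] at h5
  generalize Nat.card {t : H // ∃ g : H, g * (⟨z, hzH⟩ : H) * g⁻¹ = t} = j at h1 h3 h4 h5
  interval_cases j
  · omega
  · omega

/-- a normal subgroup of even order contains `z` -/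
theorem z_mem_of_normal_even [Finite G] (K : Subgroup G) [hK : K.Normal]
    (h2 : 2 ∣ Nat.card K) : z ∈ K := by
  have : Fact (Nat.Prime 2) := ⟨Nat.prime_two⟩
  obtain ⟨t, ht⟩ := exists_prime_orderOf_dvd_card' 2 h2
  have ht2 : (t : G) ^ 2 = 1 := by
    have := pow_orderOf_eq_one t
    rw [ht] at this
    have := congrArg Subtype.val this
    simpa using this
  have ht1 : (t : G) ≠ 1 := by
    intro hh
    have : t = 1 := Subtype.ext hh
    rw [this, orderOf_one] at ht
    omega
  obtain ⟨c, hc⟩ := b.hyp.invol_conj_mem ht2 ht1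
  have hcK : c * (t : G) * c⁻¹ ∈ K := hK.conj_mem t t.2 c
  have h2' : (c * (t : G) * c⁻¹) ^ 2 = 1 := by rw [conj_pow, ht2]; group
  have h1' : c * (t : G) * c⁻¹ ≠ 1 := by
    intro hh
    apply ht1
    calc (t : G) = c⁻¹ * (c * (t : G) * c⁻¹) * c := by group
      _ = 1 := by rw [hh]; group
  have hconj : ∀ w : G, w ∈ K → IsConj z w → z ∈ K := by
    intro w hw hzw
    obtain ⟨d, hd⟩ := isConj_iff.mp hzw.symm
    rw [← hd]
    exact hK.conj_mem w hw d
  have hzy : ∀ w : G, w ∈ K → z * w ∈ K → z ∈ K := by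
    intro w hw hzw
    have : z = (z * w) * w⁻¹ := by group
    rw [this]
    exact K.mul_mem hzw (K.inv_mem hw)
  rcases b.hyp.invol b.frame hc h2' h1' with h4 | h4 | h4 | h4 | h4
  · rw [← h4]; exact hcK
  · rw [h4] at hcK; exact hconj x hcK b.hx
  · rw [h4] at hcK; exact hconj _ hcK (b.hyp.isConj_zx b.frame b.hx)
  · rw [h4] at hcK
    apply hzy y hcK
    rw [← b.hyp.xyx b.frame]
    exact hK.conj_mem y hcK x
  · rw [h4] at hcK
    have hxzy : x * (z * y) * x⁻¹ = y := by
      have := b.hyp.xyx b.frame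
      calc x * (z * y) * x⁻¹ = (x * z) * y * x⁻¹ := by group
        _ = (z * x) * y * x⁻¹ := by rw [b.frame.xz]
        _ = z * (x * y * x⁻¹) := by group
        _ = z * (z * y) := by rw [this]
        _ = (z * z) * y := by group
        _ = y := by rw [b.hyp.z_sq, one_mul]
    have hyK : y ∈ K := by
      rw [← hxzy]
      exact hK.conj_mem _ hcK x
    exact hzy y hyK hcK

theorem sym5 [Finite G] (ψ : ↥M ≃* ↥(alternatingGroup (Fin 5))) :
    Nonempty (G ≃* Equiv.Perm (Fin 5)) := by
  have hM : Nat.card M = 60 := by rw [Nat.card_congr ψ.toEquiv, card_a5]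
  have hG : Nat.card G = 120 := by rw [b.card_G_eq, hM]
  haveI : IsSimpleGroup ↥M := ψ.isSimpleGroup
  obtain ⟨H, hH⟩ : ∃ H : Subgroup G, H = normalizer ((Qs z x : Subgroup G) : Set G) := ⟨_, rfl⟩
  have hcH : Nat.card H = 24 := by rw [hH]; exact b.card_normalizer hG
  -- the core is trivial
  have hcore : H.normalCore = ⊥ := by
    by_cases hodd : Odd (Nat.card H.normalCore)
    · exact odd_normal_eq_bot' b.hyp b.frame b.hx _ hodd
    · exfalso
      rw [Nat.not_odd_iff_even, even_iff_two_dvd] at hodd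
      have hzK : z ∈ H.normalCore := b.z_mem_of_normal_even _ hodd
      have hn : (H.normalCore.subgroupOf M).Normal := inferInstance
      rcases hn.eq_bot_or_eq_top with h1 | h1
      · have h2 : (⟨z, b.z_mem⟩ : M) ∈ H.normalCore.subgroupOf M := by
          rw [mem_subgroupOf]; exact hzK
        rw [h1, mem_bot] at h2
        exact b.hyp.z_ne (congrArg Subtype.val h2)
      · rw [subgroupOf_eq_top] at h1
        have h2 : Nat.card M ≤ Nat.card H :=
          Subgroup.card_le_of_le (h1.trans (Subgroup.normalCore_le H))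
        omega
  have hinj : Function.Injective (MulAction.toPermHom G (G ⧸ H)) := by
    rw [← MonoidHom.ker_eq_bot_iff, ← Subgroup.normalCore_eq_ker, hcore]
  have hidx : Nat.card (G ⧸ H) = 5 := by
    have := H.card_mul_index
    rw [hcH, hG, Subgroup.index_eq_card] at this
    omega
  have hbij : Function.Bijective (MulAction.toPermHom G (G ⧸ H)) := by
    rw [Nat.bijective_iff_injective_and_card]
    refine ⟨hinj, ?_⟩
    rw [Nat.card_perm, hidx, hG]
    rfl
  have e1 : G ≃* Equiv.Perm (G ⧸ H) := MulEquiv.ofBijective _ hbij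
  have e2 : (G ⧸ H) ≃ Fin 5 :=
    (Nat.equivFinOfCardPos (by rw [hidx]; norm_num)).trans (finCongr hidx)
  exact ⟨e1.trans e2.permCongrHom⟩

end BHyp

end Cfsg.Agent.Lib.Helper5.D8Cent
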