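import Cfsg.Agent.Lib.Helper5.D8Cent.Fusion
import Cfsg.Agent.S0848
import Cfsg.Agent.S0497
import Cfsg.Agent.S0495
import Cfsg.Agent.S0255

/-!
# Case C: all involutions are conjugate
-/

set_option autoImplicit false

namespace Cfsg.Agent.Lib.Helper5.D8Cent

open Subgroup

open scoped commutatorElement

theorem center_sl32 : Subgroup.center (Matrix.SpecialLinearGroup (Fin 3) (ZMod 2)) = ⊥ := by
  rw [Subgroup.eq_bot_iff_forall]
  intro A hA
  rw [Matrix.SpecialLinearGroup.mem_center_iff] at hA
  obtain ⟨r, hr1, hr2⟩ := hA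
  have hr : r = 1 := by
    have key : ∀ r : ZMod 2, r ^ Fintype.card (Fin 3) = 1 → r = 1 := by decide
    exact key r hr1
  subst hr
  apply Subtype.ext
  rw [← hr2, map_one]
  rfl

/-- `PSL_3(2)` is `SL_3(2)` -/
noncomputable def psl32Equiv : Matrix.ProjectiveSpecialLinearGroup (Fin 3) (ZMod 2) ≃*
    Matrix.SpecialLinearGroup (Fin 3) (ZMod 2) :=
  (QuotientGroup.quotientMulEquivOfEq center_sl32).trans QuotientGroup.quotientBot

variable {G : Type*} [Group G]

section

variable {z x y : G} (h : Hyp z) (f : Frame z x y) (hx : IsConj z x)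

include h f hx

/-- a normal subgroup containing `z` and `y` contains the centralizer of `z` -/
theorem le_of_normal_of_mem (K : Subgroup G) [hK : K.Normal] (hz : z ∈ K) (hy : y ∈ K) :
    centralizer ({z} : Set G) ≤ K := by
  obtain ⟨c, hc⟩ := isConj_iff.mp hx
  have hxK : x ∈ K := by rw [← hc]; exact hK.conj_mem z hz c
  intro s hs
  rcases h.mem_C f hs with h1 | h1 | h1 | h1 | h1 | h1 | h1 | h1 <;> rw [h1]
  · exact K.one_mem
  · exact hz
  · exact hxK
  · exact K.mul_mem hz hxK
  · exact hy
  · exact K.mul_mem hz hy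
  · exact K.mul_mem hxK hy
  · exact K.mul_mem hy hxK

/-- a normal subgroup containing `z` and `y` is everything -/
theorem eq_top_of_normal_of_mem [Finite G] (K : Subgroup G) [hK : K.Normal] (hz : z ∈ K)
    (hy : y ∈ K) : K = ⊤ := by
  have : Fact (Nat.Prime 2) := ⟨Nat.prime_two⟩
  obtain ⟨S, hS⟩ := h.exists_sylow
  apply eq_top_of_sylow_le S
  · rw [hS]; exact h.normalizer_eq
  · rw [hS]; exact le_of_normal_of_mem h f hx K hz hy

/-- no nontrivial normal subgroups of odd order -/
theorem odd_normal_eq_bot' [Finite G] (N : Subgroup G) [hN : N.Normal]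
    (hodd : Odd (Nat.card N)) : N = ⊥ := by
  obtain ⟨c, hc⟩ := isConj_iff.mp hx
  obtain ⟨c', hc'⟩ := isConj_iff.mp (h.isConj_zx f hx)
  exact h.odd_normal_eq_bot N hodd hc.symm hc'.symm f.xx

end

/-- Case C -/
theorem caseC [Finite G] {z x y : G} (h : Hyp z) (e : centralizer ({z} : Set G) ≃* D)
    (f : Frame z x y) (hx : IsConj z x) (hy : IsConj z y) :
    Nonempty (G ≃* Matrix.SpecialLinearGroup (Fin 3) (ZMod 2)) ∨
      Nonempty (G ≃* ↥(alternatingGroup (Fin 6))) := by
  -- all involutions are conjugate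
  have hall : ∀ t : G, t ^ 2 = 1 → t ≠ 1 → IsConj z t := by
    intro t ht2 ht1
    obtain ⟨g, hg⟩ := h.invol_conj_mem ht2 ht1
    have h2 : (g * t * g⁻¹) ^ 2 = 1 := by rw [conj_pow, ht2]; group
    have h1 : g * t * g⁻¹ ≠ 1 := by
      intro hh
      apply ht1
      calc t = g⁻¹ * (g * t * g⁻¹) * g := by group
        _ = 1 := by rw [hh]; group
    have h3 : IsConj (g * t * g⁻¹) t := (isConj_iff.mpr ⟨g, rfl⟩ : IsConj t (g * t * g⁻¹)).symm
    refine IsConj.trans ?_ h3
    rcases h.invol f hg h2 h1 with h4 | h4 | h4 | h4 | h4 <;> rw [h4]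
    · exact hx
    · exact h.isConj_zx f hx
    · exact hy
    · exact hy.trans (h.isConj_zy f)
  -- a normal subgroup containing an involution is everything
  have hinv : ∀ (K : Subgroup G) [K.Normal], z ∈ K → K = ⊤ := by
    intro K hK hz
    obtain ⟨c, hc⟩ := isConj_iff.mp hy
    have hyK : y ∈ K := by rw [← hc]; exact hK.conj_mem z hz c
    exact eq_top_of_normal_of_mem h f hx K hz hyK
  -- perfect
  have hperf : _root_.commutator G = ⊤ := by
    apply hinv
    obtain ⟨c, hc⟩ := isConj_iff.mp hx
    obtain ⟨c', hc'⟩ := isConj_iff.mp (h.isConj_zx f hx)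
    have h1 : x * z ∈ _root_.commutator G := by
      have : ⁅c, z⁆ ∈ _root_.commutator G := by
        rw [_root_.commutator_def]
        exact Subgroup.commutator_mem_commutator (mem_top c) (mem_top z)
      rw [commutatorElement_def, hc, h.z_inv] at this
      exact this
    have h2 : x ∈ _root_.commutator G := by
      have : ⁅c', z⁆ ∈ _root_.commutator G := by
        rw [_root_.commutator_def]
        exact Subgroup.commutator_mem_commutator (mem_top c') (mem_top z)
      rw [commutatorElement_def, hc', h.z_inv] at this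
      have h3 : z * x * z = x := by
        calc z * x * z = z * (x * z) := by group
          _ = z * (z * x) := by rw [f.xz]
          _ = (z * z) * x := by group
          _ = x := by rw [h.z_sq, one_mul]
      rwa [h3] at this
    have h3 : z = x⁻¹ * (x * z) := by group
    rw [h3]
    exact (_root_.commutator G).mul_mem ((_root_.commutator G).inv_mem h2) h1
  -- simple
  haveI : Nontrivial G := ⟨⟨z, 1, h.z_ne⟩⟩
  haveI : IsSimpleGroup G := by
    refine ⟨fun N hN => ?_⟩
    by_cases hodd : Odd (Nat.card N)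
    · left; exact odd_normal_eq_bot' h f hx N hodd
    · right
      rw [Nat.not_odd_iff_even, even_iff_two_dvd] at hodd
      have : Fact (Nat.Prime 2) := ⟨Nat.prime_two⟩
      obtain ⟨t, ht⟩ := exists_prime_orderOf_dvd_card' 2 hodd
      have ht2 : (t : G) ^ 2 = 1 := by
        have := pow_orderOf_eq_one t
        rw [ht] at this
        have := congrArg Subtype.val this
        simpa using this
      have ht1 : (t : G) ≠ 1 := by
        intro hh
        have : t = 1 := Subtype.ext hh
        rw [this, orderOf_one] at ht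
        omega
      obtain ⟨c, hc⟩ := isConj_iff.mp (hall t ht2 ht1).symm
      apply hinv
      rw [← hc]
      exact hN.conj_mem t t.2 c
  rcases Cfsg.Agent.S0848.result hperf z h.ord e with h168 | h360
  · left
    have : Fact (Nat.Prime 7) := ⟨by norm_num⟩
    obtain ⟨e1⟩ := Cfsg.Agent.S0495.result h168 (F := ZMod 7) (ZMod.card 7)
    obtain ⟨e2⟩ := Cfsg.Agent.S0255.result (F := ZMod 7) (K := ZMod 2) (ZMod.card 7) (ZMod.card 2)
    exact ⟨(e1.trans e2).trans psl32Equiv⟩
  · right
    exact Cfsg.Agent.S0497.result h360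

end Cfsg.Agent.Lib.Helper5.D8Cent
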