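import Cfsg.Agent.Lib.Helper5.D8Cent.Setup

/-!
# Frames in the dihedral centralizer and fusion of involutions
-/

set_option autoImplicit false

namespace Cfsg.Agent.Lib.Helper5.D8Cent

open Subgroup

variable {G : Type*} [Group G]

/-- two generating involutions of the centralizer of `z` -/
structure Frame (z x y : G) : Prop where
  hx : x ∈ centralizer ({z} : Set G)
  hx2 : x ^ 2 = 1
  hx1 : x ≠ 1
  hxz : x ≠ z
  hy : y ∈ centralizer ({z} : Set G)
  hy2 : y ^ 2 = 1
  hy1 : y ≠ 1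
  hyz : y ≠ z
  hyx : y ≠ x
  hyzx : y ≠ z * x

namespace Frame

variable {z x y : G} (f : Frame z x y)

include f

theorem xz : x * z = z * x := mem_centralizer_singleton_iff.mp f.hx

theorem yz : y * z = z * y := mem_centralizer_singleton_iff.mp f.hy

theorem xx : x * x = 1 := by rw [← pow_two]; exact f.hx2

theorem yy : y * y = 1 := by rw [← pow_two]; exact f.hy2

theorem x_inv : x⁻¹ = x := inv_eq_of_mul_eq_one_left f.xx

theorem y_inv : y⁻¹ = y := inv_eq_of_mul_eq_one_left f.yy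

end Frame

namespace Hyp

variable {z : G} (h : Hyp z)

include h

theorem klein {u1 u2 : G} (h1 : u1 ∈ centralizer ({z} : Set G))
    (h2 : u2 ∈ centralizer ({z} : Set G)) (k1 : u1 ^ 2 = 1) (k2 : u2 ^ 2 = 1) (n1 : u1 ≠ 1)
    (n2 : u2 ≠ 1) (hne : u1 ≠ u2) (hc : u1 * u2 = u2 * u1) :
    u1 = z ∨ u2 = z ∨ u1 * u2 = z := by
  rcases h.d8.klein ⟨u1, h1⟩ ⟨u2, h2⟩ (Subtype.ext (by simpa using k1))
    (Subtype.ext (by simpa using k2)) (fun hh => n1 (congrArg Subtype.val hh))
    (fun hh => n2 (congrArg Subtype.val hh)) (fun hh => hne (congrArg Subtype.val hh))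
    (Subtype.ext (by simpa using hc)) with h3 | h3 | h3
  · left; exact congrArg Subtype.val h3
  · right; left; exact congrArg Subtype.val h3
  · right; right
    have := congrArg Subtype.val h3
    simpa using this

theorem exists_frame {x : G} (hx : x ∈ centralizer ({z} : Set G)) (hx2 : x ^ 2 = 1) (hx1 : x ≠ 1)
    (hxz : x ≠ z) : ∃ y, Frame z x y := by
  obtain ⟨y, hy, hy2, hy1, hyz, hyx, hyzx⟩ := h.exists_y hx hx2 hx1 hxz
  exact ⟨y, ⟨hx, hx2, hx1, hxz, hy, hy2, hy1, hyz, hyx, hyzx⟩⟩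

section frame

variable {x y : G} (f : Frame z x y)

include f

theorem yxy : y * x * y⁻¹ = z * x :=
  (h.struct f.hx f.hx2 f.hx1 f.hxz f.hy f.hy2 f.hy1 f.hyz f.hyx f.hyzx).1

theorem xyx : x * y * x⁻¹ = z * y :=
  (h.struct f.hx f.hx2 f.hx1 f.hxz f.hy f.hy2 f.hy1 f.hyz f.hyx f.hyzx).2.1

theorem xy_sq : (x * y) ^ 2 = z :=
  (h.struct f.hx f.hx2 f.hx1 f.hxz f.hy f.hy2 f.hy1 f.hyz f.hyx f.hyzx).2.2.1

theorem mem_C {s : G} (hs : s ∈ centralizer ({z} : Set G)) :
    s = 1 ∨ s = z ∨ s = x ∨ s = z * x ∨ s = y ∨ s = z * y ∨ s = x * y ∨ s = y * x :=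
  (h.struct f.hx f.hx2 f.hx1 f.hxz f.hy f.hy2 f.hy1 f.hyz f.hyx f.hyzx).2.2.2 s hs

theorem yx_eq : y * x = z * x * y := by
  have := h.yxy f
  calc y * x = y * x * y⁻¹ * y := by group
    _ = z * x * y := by rw [this]

theorem xy_eq : x * y = z * y * x := by
  have := h.xyx f
  calc x * y = x * y * x⁻¹ * x := by group
    _ = z * y * x := by rw [this]

theorem yx_sq : (y * x) ^ 2 = z := by
  have h1 : y * x = (x * y)⁻¹ := by rw [mul_inv_rev, f.x_inv, f.y_inv]
  rw [h1, inv_pow, h.xy_sq f, h.z_inv]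

theorem zx_sq : (z * x) ^ 2 = 1 := by
  rw [pow_two]
  calc z * x * (z * x) = z * (x * z) * x := by group
    _ = z * (z * x) * x := by rw [f.xz]
    _ = (z * z) * (x * x) := by group
    _ = 1 := by rw [h.z_sq, f.xx, one_mul]

theorem zy_sq : (z * y) ^ 2 = 1 := by
  rw [pow_two]
  calc z * y * (z * y) = z * (y * z) * y := by group
    _ = z * (z * y) * y := by rw [f.yz]
    _ = (z * z) * (y * y) := by group
    _ = 1 := by rw [h.z_sq, f.yy, one_mul]

/-- the involutions of the centralizer -/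
theorem invol {s : G} (hs : s ∈ centralizer ({z} : Set G)) (hs2 : s ^ 2 = 1) (hs1 : s ≠ 1) :
    s = z ∨ s = x ∨ s = z * x ∨ s = y ∨ s = z * y := by
  rcases h.mem_C f hs with h1 | h1 | h1 | h1 | h1 | h1 | h1 | h1
  · exact absurd h1 hs1
  · left; exact h1
  · right; left; exact h1
  · right; right; left; exact h1
  · right; right; right; left; exact h1
  · right; right; right; right; exact h1
  · exfalso
    rw [h1, h.xy_sq f] at hs2
    exact h.z_ne hs2
  · exfalso
    rw [h1, h.yx_sq f] at hs2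
    exact h.z_ne hs2

theorem zx_ne_one : z * x ≠ 1 := by
  intro h1
  apply f.hxz
  calc x = z⁻¹ * (z * x) := by group
    _ = z := by rw [h1, h.z_inv, mul_one]

theorem zy_ne_one : z * y ≠ 1 := by
  intro h1
  apply f.hyz
  calc y = z⁻¹ * (z * y) := by group
    _ = z := by rw [h1, h.z_inv, mul_one]

theorem zx_ne_z : z * x ≠ z := by
  intro h1
  apply f.hx1
  calc x = z⁻¹ * (z * x) := by group
    _ = 1 := by rw [h1]; group

theorem zy_ne_z : z * y ≠ z := by
  intro h1
  apply f.hy1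
  calc y = z⁻¹ * (z * y) := by group
    _ = 1 := by rw [h1]; group

theorem zx_mem : z * x ∈ centralizer ({z} : Set G) := mul_mem h.z_mem f.hx

theorem zy_mem : z * y ∈ centralizer ({z} : Set G) := mul_mem h.z_mem f.hy

theorem isConj_zx (hc : IsConj z x) : IsConj z (z * x) := by
  refine hc.trans ?_
  rw [isConj_iff]
  exact ⟨y, h.yxy f⟩

theorem isConj_zy : IsConj y (z * y) := by
  rw [isConj_iff]
  exact ⟨x, h.xyx f⟩

/-- the swapped frame -/
theorem frame_swap : Frame z y x where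
  hx := f.hy
  hx2 := f.hy2
  hx1 := f.hy1
  hxz := f.hyz
  hy := f.hx
  hy2 := f.hx2
  hy1 := f.hx1
  hyz := f.hxz
  hyx := fun hh => f.hyx hh.symm
  hyzx := by
    intro hh
    -- x = z * y
    apply f.hyzx
    calc y = z⁻¹ * (z * y) := by group
      _ = z * x := by rw [← hh, h.z_inv]

end frame

/-- every involution is conjugate into the centralizer -/
theorem invol_conj_mem [Finite G] {t : G} (ht2 : t ^ 2 = 1) (ht1 : t ≠ 1) :
    ∃ g : G, g * t * g⁻¹ ∈ centralizer ({z} : Set G) := by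
  have : Fact (Nat.Prime 2) := ⟨Nat.prime_two⟩
  obtain ⟨S, hS⟩ := h.exists_sylow
  have hord : orderOf t = 2 := orderOf_eq_prime ht2 ht1
  have hp : IsPGroup 2 (zpowers t) :=
    IsPGroup.of_card (n := 1) (by rw [Nat.card_zpowers, hord]; norm_num)
  obtain ⟨P, hP⟩ := hp.exists_le_sylow
  obtain ⟨g, hg⟩ := MulAction.exists_smul_eq G P S
  refine ⟨g, ?_⟩
  rw [← hS, ← hg, Sylow.coe_subgroup_smul, Subgroup.mem_pointwise_smul_iff_inv_smul_mem,
    MulAut.smul_def, MulAut.conj_inv_apply]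
  have : g⁻¹ * (g * t * g⁻¹) * g = t := by group
  rw [this]
  exact hP (mem_zpowers t)

end Hyp

end Cfsg.Agent.Lib.Helper5.D8Cent
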