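import Cfsg.Agent.Lib.Helper5.D8Cent.Basic
import Cfsg.Agent.Lib.Helper4.InvAction

/-!
# The centralizer of the involution is a Sylow 2-subgroup; general lemmas
-/

set_option autoImplicit false

namespace Cfsg.Agent.Lib.Helper5.D8Cent

open Subgroup

variable {G : Type*} [Group G]

/-- the working hypothesis: `z` is an involution whose centralizer is dihedral of order 8 -/
structure Hyp (z : G) : Prop where
  ord : orderOf z = 2
  d8 : IsD8 (centralizer ({z} : Set G)) ⟨z, mem_centralizer_singleton_iff.mpr rfl⟩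

theorem hyp_of_equiv {z : G} (hz : orderOf z = 2) (e : centralizer ({z} : Set G) ≃* D) : Hyp z :=
  ⟨hz, isD8_of_equiv e (e_z hz e)⟩

namespace Hyp

variable {z : G} (h : Hyp z)

include h

theorem z_sq : z * z = 1 := by
  have := pow_orderOf_eq_one z
  rwa [h.ord, pow_two] at this

theorem z_ne : z ≠ 1 := by
  intro h1
  have := h.ord
  rw [h1, orderOf_one] at this
  omega

theorem z_inv : z⁻¹ = z := inv_eq_of_mul_eq_one_left h.z_sq

theorem z_mem : z ∈ centralizer ({z} : Set G) := mem_centralizer_singleton_iff.mpr rfl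

theorem card_C : Nat.card (centralizer ({z} : Set G)) = 8 := h.d8.card

theorem center {s : G} (hs : s ∈ centralizer ({z} : Set G))
    (hc : ∀ c ∈ centralizer ({z} : Set G), s * c = c * s) : s = 1 ∨ s = z := by
  rcases h.d8.center ⟨s, hs⟩ (fun c => Subtype.ext (hc c.1 c.2)) with h1 | h1
  · left; exact congrArg Subtype.val h1
  · right; exact congrArg Subtype.val h1

theorem exists_x : ∃ x ∈ centralizer ({z} : Set G), x ^ 2 = 1 ∧ x ≠ 1 ∧ x ≠ z := by
  obtain ⟨x, h1, h2, h3⟩ := h.d8.exists_x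
  refine ⟨x.1, x.2, ?_, ?_, ?_⟩
  · have := congrArg Subtype.val h1
    simpa using this
  · intro hx; exact h2 (Subtype.ext hx)
  · intro hx; exact h3 (Subtype.ext hx)

theorem exists_y {x : G} (hx : x ∈ centralizer ({z} : Set G)) (hx2 : x ^ 2 = 1) (hx1 : x ≠ 1)
    (hxz : x ≠ z) :
    ∃ y ∈ centralizer ({z} : Set G), y ^ 2 = 1 ∧ y ≠ 1 ∧ y ≠ z ∧ y ≠ x ∧ y ≠ z * x := by
  obtain ⟨y, h1, h2, h3, h4, h5⟩ := h.d8.exists_y ⟨x, hx⟩ (Subtype.ext (by simpa using hx2))
    (fun hh => hx1 (congrArg Subtype.val hh)) (fun hh => hxz (congrArg Subtype.val hh))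
  refine ⟨y.1, y.2, ?_, ?_, ?_, ?_, ?_⟩
  · have := congrArg Subtype.val h1
    simpa using this
  · intro hy; exact h2 (Subtype.ext hy)
  · intro hy; exact h3 (Subtype.ext hy)
  · intro hy; exact h4 (Subtype.ext hy)
  · intro hy; exact h5 (Subtype.ext hy)

theorem struct {x : G} (hx : x ∈ centralizer ({z} : Set G)) (hx2 : x ^ 2 = 1) (hx1 : x ≠ 1)
    (hxz : x ≠ z) {y : G} (hy : y ∈ centralizer ({z} : Set G)) (hy2 : y ^ 2 = 1) (hy1 : y ≠ 1)
    (hyz : y ≠ z) (hyx : y ≠ x) (hyzx : y ≠ z * x) :
    y * x * y⁻¹ = z * x ∧ x * y * x⁻¹ = z * y ∧ (x * y) ^ 2 = z ∧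
      ∀ s ∈ centralizer ({z} : Set G), s = 1 ∨ s = z ∨ s = x ∨ s = z * x ∨ s = y ∨ s = z * y ∨
        s = x * y ∨ s = y * x := by
  obtain ⟨c1, c2, c3, c4⟩ := h.d8.struct ⟨x, hx⟩ (Subtype.ext (by simpa using hx2))
    (fun hh => hx1 (congrArg Subtype.val hh)) (fun hh => hxz (congrArg Subtype.val hh))
    ⟨y, hy⟩ (Subtype.ext (by simpa using hy2))
    (fun hh => hy1 (congrArg Subtype.val hh)) (fun hh => hyz (congrArg Subtype.val hh))
    (fun hh => hyx (congrArg Subtype.val hh)) (fun hh => hyzx (congrArg Subtype.val hh))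
  refine ⟨?_, ?_, ?_, ?_⟩
  · have := congrArg Subtype.val c1
    simpa using this
  · have := congrArg Subtype.val c2
    simpa using this
  · have := congrArg Subtype.val c3
    simpa using this
  · intro s hs
    rcases c4 ⟨s, hs⟩ with h1 | h1 | h1 | h1 | h1 | h1 | h1 | h1
    · left; exact congrArg Subtype.val h1
    · right; left; exact congrArg Subtype.val h1
    · right; right; left; exact congrArg Subtype.val h1
    · right; right; right; left; exact congrArg Subtype.val h1
    · right; right; right; right; left; exact congrArg Subtype.val h1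
    · right; right; right; right; right; left; exact congrArg Subtype.val h1
    · right; right; right; right; right; right; left; exact congrArg Subtype.val h1
    · right; right; right; right; right; right; right; exact congrArg Subtype.val h1

/-- the normalizer of the centralizer is the centralizer -/
theorem normalizer_eq :
    normalizer ((centralizer ({z} : Set G) : Subgroup G) : Set G) = centralizer ({z} : Set G) := by
  apply le_antisymm _ le_normalizer
  intro g hg
  rw [mem_normalizer_iff] at hg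
  have h1 : g * z * g⁻¹ ∈ centralizer ({z} : Set G) := (hg z).mp h.z_mem
  have h2 : ∀ c ∈ centralizer ({z} : Set G), g * z * g⁻¹ * c = c * (g * z * g⁻¹) := by
    intro c hc
    have hc' : g⁻¹ * c * g ∈ centralizer ({z} : Set G) := by
      rw [hg]
      have : g * (g⁻¹ * c * g) * g⁻¹ = c := by group
      rw [this]; exact hc
    have h3 : g⁻¹ * c * g * z = z * (g⁻¹ * c * g) := mem_centralizer_singleton_iff.mp hc'
    calc g * z * g⁻¹ * c = g * (z * (g⁻¹ * c * g)) * g⁻¹ := by group
      _ = g * (g⁻¹ * c * g * z) * g⁻¹ := by rw [h3]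
      _ = c * (g * z * g⁻¹) := by group
  rcases h.center h1 h2 with h3 | h3
  · exfalso
    apply h.z_ne
    have : z = g⁻¹ * (g * z * g⁻¹) * g := by group
    rw [this, h3]; group
  · rw [mem_centralizer_singleton_iff]
    calc g * z = (g * z * g⁻¹) * g := by group
      _ = z * g := by rw [h3]

/-- the centralizer as a Sylow 2-subgroup -/
theorem exists_sylow [Finite G] : ∃ S : Sylow 2 G, (S : Subgroup G) = centralizer ({z} : Set G) := by
  have : Fact (Nat.Prime 2) := ⟨Nat.prime_two⟩
  have hp : IsPGroup 2 (centralizer ({z} : Set G)) :=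
    IsPGroup.of_card (n := 3) (by rw [h.card_C]; norm_num)
  obtain ⟨T, hT⟩ := hp.exists_le_sylow
  refine ⟨T, ?_⟩
  by_contra hne
  have hlt : (centralizer ({z} : Set G)).subgroupOf (T : Subgroup G) < ⊤ := by
    rw [lt_top_iff_ne_top]
    intro htop
    rw [subgroupOf_eq_top] at htop
    exact hne (le_antisymm htop hT)
  have hnil : Group.IsNilpotent (T : Subgroup G) := T.isPGroup'.isNilpotent
  have hnc := Group.normalizerCondition_of_isNilpotent (G := (T : Subgroup G))
  have hlt2 := hnc _ hlt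
  obtain ⟨g, hgN, hgC⟩ := Set.exists_of_ssubset hlt2
  apply hgC
  show g ∈ (centralizer ({z} : Set G)).subgroupOf (T : Subgroup G)
  rw [mem_subgroupOf, ← h.normalizer_eq, mem_normalizer_iff]
  have hgN' := hgN
  rw [SetLike.mem_coe, mem_normalizer_iff] at hgN'
  intro c
  constructor
  · intro hc
    have hcT : c ∈ (T : Subgroup G) := hT hc
    have := (hgN' ⟨c, hcT⟩).mp (by rw [mem_subgroupOf]; exact hc)
    rw [mem_subgroupOf] at this
    exact this
  · intro hc
    -- c = g⁻¹ (g c g⁻¹) g with g c g⁻¹ ∈ C ≤ T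
    have hcT : c ∈ (T : Subgroup G) := by
      have h1 : (g : G) * c * (g : G)⁻¹ ∈ (T : Subgroup G) := hT hc
      have h2 : c = (g : G)⁻¹ * ((g : G) * c * (g : G)⁻¹) * (g : G) := by group
      rw [h2]
      exact (T : Subgroup G).mul_mem ((T : Subgroup G).mul_mem ((T : Subgroup G).inv_mem g.2) h1) g.2
    have := (hgN' ⟨c, hcT⟩).mpr (by rw [mem_subgroupOf]; exact hc)
    rw [mem_subgroupOf] at this
    exact this


/-- an element commuting with a conjugate of `z` has order dividing 8 -/
theorem pow_eight_of_comm {w n g : G} (hw : w = g * z * g⁻¹) (hn : w * n = n * w) : n ^ 8 = 1 := by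
  have h1 : g⁻¹ * n * g ∈ centralizer ({z} : Set G) := by
    rw [mem_centralizer_singleton_iff]
    have h2 : g * z * g⁻¹ * n = n * (g * z * g⁻¹) := by rw [← hw]; exact hn
    calc g⁻¹ * n * g * z = g⁻¹ * (n * (g * z * g⁻¹)) * g := by group
      _ = g⁻¹ * (g * z * g⁻¹ * n) * g := by rw [h2]
      _ = z * (g⁻¹ * n * g) := by group
  have h3 : (⟨g⁻¹ * n * g, h1⟩ : centralizer ({z} : Set G)) ^ 8 = 1 := by
    rw [← h.card_C]; exact pow_card_eq_one'
  have h4 : (g⁻¹ * n * g) ^ 8 = 1 := by
    have := congrArg Subtype.val h3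
    simpa using this
  have h5 : n = g * (g⁻¹ * n * g) * g⁻¹ := by group
  rw [h5, conj_pow, h4]; group

/-- a conjugate of `z` has no nontrivial fixed points on a subgroup of odd order -/
theorem fpf_of_odd [Finite G] (N : Subgroup G) (hodd : Odd (Nat.card N)) {w g : G}
    (hw : w = g * z * g⁻¹) : ∀ n ∈ N, w * n = n * w → n = 1 := by
  intro n hnN hn
  have h8 := h.pow_eight_of_comm hw hn
  have h1 : orderOf n ∣ 8 := orderOf_dvd_of_pow_eq_one h8
  have h2 : orderOf n ∣ Nat.card N := by
    have := orderOf_dvd_natCard (⟨n, hnN⟩ : N)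
    rwa [Subgroup.orderOf_mk] at this
  have h3 : Nat.Coprime (Nat.card N) 8 := by
    have : Nat.Coprime (Nat.card N) 2 := (Nat.coprime_two_right).mpr hodd
    exact Nat.Coprime.pow_right 3 this
  have h4 : orderOf n ∣ 1 := by
    have := Nat.dvd_gcd h2 h1
    rwa [h3] at this
  exact orderOf_eq_one_iff.mp (Nat.dvd_one.mp h4)

/-- no nontrivial normal subgroup of odd order when `z` is fused to a commuting involution -/
theorem odd_normal_eq_bot [Finite G] (N : Subgroup G) [hN : N.Normal] (hodd : Odd (Nat.card N))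
    {x g g' : G} (hx : x = g * z * g⁻¹) (hzx : z * x = g' * z * g'⁻¹) (hxx : x * x = 1) :
    N = ⊥ := by
  have hz1 : z = 1 * z * 1⁻¹ := by group
  have i1 := Cfsg.Agent.Lib.Helper4.InvAction.inverts_of_fixedPointFree N z h.z_sq
    (fun s hs => hN.conj_mem s hs z) (h.fpf_of_odd N hodd hz1)
  have i2 := Cfsg.Agent.Lib.Helper4.InvAction.inverts_of_fixedPointFree N x hxx
    (fun s hs => hN.conj_mem s hs x) (h.fpf_of_odd N hodd hx)
  rw [Subgroup.eq_bot_iff_forall]
  intro n hn
  apply h.fpf_of_odd N hodd hzx n hn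
  have h1 : x * n * x⁻¹ = n⁻¹ := i2 n hn
  have h2 : z * n⁻¹ * z⁻¹ = n⁻¹⁻¹ := i1 n⁻¹ (N.inv_mem hn)
  rw [inv_inv] at h2
  calc z * x * n = z * (x * n * x⁻¹) * z⁻¹ * (z * x) := by group
    _ = n * (z * x) := by rw [h1, h2]

end Hyp

/-- Frattini: a normal subgroup containing a self-normalizing Sylow subgroup is everything -/
theorem eq_top_of_sylow_le [Finite G] {p : ℕ} [Fact p.Prime] (S : Sylow p G)
    (hN : normalizer ((S : Subgroup G) : Set G) = S) (K : Subgroup G) [K.Normal]
    (hSK : (S : Subgroup G) ≤ K) : K = ⊤ := by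
  have h1 := Sylow.normalizer_sup_eq_top (S.subtype hSK)
  rw [Sylow.coe_subtype, Subgroup.subgroupOf_map_subtype, inf_of_le_left hSK, hN] at h1
  rw [← h1]
  exact (sup_of_le_right hSK).symm

end Cfsg.Agent.Lib.Helper5.D8Cent
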